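import Groth.Agent.FlatDepth.Fibre
import Mathlib

/-!
Serre's conditions at a prime along flat maps.
-/

set_option autoImplicit false
set_option linter.style.haveILetI false

namespace Groth.Agent.FlatDepth

universe u

open IsLocalRing

theorem comap_loc_le {A : Type u} [CommRing A] (q : Ideal A) [q.IsPrime] (P : Ideal (Localization.AtPrime q))
    [P.IsPrime] : P.comap (algebraMap A (Localization.AtPrime q)) ≤ q :=
  (Ideal.comap_mono (le_maximalIdeal (Ideal.IsPrime.ne_top ‹_›))).trans
    (IsLocalization.AtPrime.under_maximalIdeal (Localization.AtPrime q) q).le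

/-- Localisations of a localisation. -/
theorem loc_equiv {A : Type u} [CommRing A] (q : Ideal A) [q.IsPrime] (p : Ideal A) [p.IsPrime] (hle : p ≤ q) :
    ∃ (P : Ideal (Localization.AtPrime q)) (_ : P.IsPrime), P.comap (algebraMap A (Localization.AtPrime q)) = p ∧
      P.height = p.height ∧ Nonempty (Localization.AtPrime P ≃+* Localization.AtPrime p) := by
  have hd : Disjoint (q.primeCompl : Set A) (p : Set A) :=
    Set.disjoint_left.2 fun x hx hxp => hx (hle hxp)
  let P := p.map (algebraMap A (Localization.AtPrime q))
  haveI hP : P.IsPrime := IsLocalization.isPrime_of_isPrime_disjoint q.primeCompl _ p inferInstance hd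
  have hc : P.comap (algebraMap A (Localization.AtPrime q)) = p :=
    IsLocalization.comap_map_of_isPrime_disjoint q.primeCompl _ inferInstance hd
  refine ⟨P, hP, hc, IsLocalization.height_map_of_disjoint q.primeCompl p hd, ?_⟩
  clear_value P
  subst hc
  exact ⟨(IsLocalization.localizationLocalizationAtPrimeIsoLocalization q.primeCompl P).symm.toRingEquiv⟩

theorem hasRk_loc_apply {A : Type u} [CommRing A] [IsNoetherianRing A] {k : ℕ} (q : Ideal A) [q.IsPrime]
    (h : LocCoh.HasRk k (Localization.AtPrime q)) (p : Ideal A) [p.IsPrime] (hle : p ≤ q) (hk : p.height ≤ k) :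
    IsRegularLocalRing (Localization.AtPrime p) := by
  obtain ⟨P, _, -, hh, ⟨e⟩⟩ := loc_equiv q p hle
  haveI := h P (hh ▸ hk)
  exact IsRegularLocalRing.of_ringEquiv e

theorem hasSk_loc_apply {A : Type u} [CommRing A] [IsNoetherianRing A] {k : ℕ} (q : Ideal A) [q.IsPrime]
    (h : LocCoh.HasSk k (Localization.AtPrime q) (Localization.AtPrime q)) (p : Ideal A) [p.IsPrime] (hle : p ≤ q) :
    CondS k (Localization.AtPrime p) := by
  haveI : IsNoetherianRing (Localization.AtPrime q) := IsLocalization.isNoetherianRing q.primeCompl _ inferInstance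
  haveI : IsNoetherianRing (Localization.AtPrime p) := IsLocalization.isNoetherianRing p.primeCompl _ inferInstance
  obtain ⟨P, _, -, -, ⟨e⟩⟩ := loc_equiv q p hle
  haveI : IsNoetherianRing (Localization.AtPrime P) := IsLocalization.isNoetherianRing P.primeCompl _ inferInstance
  exact ((hasSk_iff_condS k _).1 h P).of_ringEquiv e

variable {A B : Type u} [CommRing A] [CommRing B] [IsNoetherianRing A] [IsNoetherianRing B] [Algebra A B]
  [Module.Flat A B]

theorem hasRk_loc_of_forall (k : ℕ) (q : Ideal B) [q.IsPrime]
    (h : ∀ (P : Ideal B) [P.IsPrime], P ≤ q → P.height ≤ k → IsRegularLocalRing (Localization.AtPrime P)) :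
    LocCoh.HasRk k (Localization.AtPrime q) := by
  intro P hP hk
  let P₀ := P.comap (algebraMap B (Localization.AtPrime q))
  haveI := h P₀ (comap_loc_le q P) (le_of_eq_of_le (IsLocalization.height_under q.primeCompl P) hk)
  exact IsRegularLocalRing.of_ringEquiv
    (IsLocalization.localizationLocalizationAtPrimeIsoLocalization q.primeCompl P).toRingEquiv

theorem hasRk_at_ascent (k : ℕ) (hfib : ∀ (q : Ideal B) [q.IsPrime], LocCoh.HasRk k (EGA4.FibLocRing A B q))
    (q : Ideal B) [q.IsPrime] (hA : LocCoh.HasRk k (Localization.AtPrime (q.comap (algebraMap A B)))) :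
    LocCoh.HasRk k (Localization.AtPrime q) := by
  refine hasRk_loc_of_forall k q fun P _ hle hk => isRegular_atPrime_ascent (A := A) P ?_ ?_
  · exact hasRk_loc_apply _ hA _ (Ideal.comap_mono hle) ((height_comap_le P).trans hk)
  · haveI := isLocalRing_fibLocRing (A := A) P
    haveI := hfib P (maximalIdeal (EGA4.FibLocRing A B P)) (by
      rw [← WithBot.coe_le_coe, IsLocalRing.maximalIdeal_height_eq_ringKrullDim]
      exact (ringKrullDim_fibLocRing_le (A := A) P).trans (WithBot.coe_le_coe.2 hk))
    exact IsRegularLocalRing.of_ringEquiv (R := Localization.AtPrime (maximalIdeal (EGA4.FibLocRing A B P)))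
      (IsLocalization.atUnits (EGA4.FibLocRing A B P) (maximalIdeal (EGA4.FibLocRing A B P)).primeCompl
      (S := Localization.AtPrime (maximalIdeal (EGA4.FibLocRing A B P)))
      (fun x hx => notMem_maximalIdeal.1 hx)).symm.toRingEquiv

theorem hasRk_at_descent (k : ℕ) (q : Ideal B) [q.IsPrime] (h : LocCoh.HasRk k (Localization.AtPrime q)) :
    LocCoh.HasRk k (Localization.AtPrime (q.comap (algebraMap A B))) := by
  let p := q.comap (algebraMap A B)
  haveI : q.LiesOver p := ⟨rfl⟩
  letI := Localization.AtPrime.algebraOfLiesOver p q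
  obtain ⟨h1, h2, -⟩ := atPrime_setup q p
  haveI := h1
  haveI := h2
  haveI : Module.FaithfullyFlat (Localization.AtPrime p) (Localization.AtPrime q) :=
    Module.FaithfullyFlat.of_flat_of_isLocalHom
  haveI : IsNoetherianRing (Localization.AtPrime p) := IsLocalization.isNoetherianRing p.primeCompl _ inferInstance
  haveI : IsNoetherianRing (Localization.AtPrime q) := IsLocalization.isNoetherianRing q.primeCompl _ inferInstance
  exact hasRk_descent (A := Localization.AtPrime p) (B := Localization.AtPrime q) k h

/-- Normality ascends at a prime. -/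
theorem normal_at_ascent
    (hfib : ∀ (q : Ideal B) [q.IsPrime], IsDomain (EGA4.FibLocRing A B q) ∧ IsIntegrallyClosed (EGA4.FibLocRing A B q))
    (q : Ideal B) [q.IsPrime] [IsDomain (Localization.AtPrime (q.comap (algebraMap A B)))]
    [IsIntegrallyClosed (Localization.AtPrime (q.comap (algebraMap A B)))] :
    IsDomain (Localization.AtPrime q) ∧ IsIntegrallyClosed (Localization.AtPrime q) := by
  let Ap := Localization.AtPrime (q.comap (algebraMap A B))
  haveI : IsNoetherianRing Ap := IsLocalization.isNoetherianRing (q.comap (algebraMap A B)).primeCompl _ inferInstance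
  haveI : IsNoetherianRing (Localization.AtPrime q) := IsLocalization.isNoetherianRing q.primeCompl _ inferInstance
  obtain ⟨hR, hS⟩ := (S0601.result Ap).1 fun p _ =>
    ⟨IsLocalization.isDomain_localization p.primeCompl_le_nonZeroDivisors,
      isIntegrallyClosed_of_isLocalization _ p.primeCompl p.primeCompl_le_nonZeroDivisors⟩
  have key : ∀ (P : Ideal B) [P.IsPrime], P ≤ q → CondS 2 (Localization.AtPrime P) := fun P _ hle => by
    obtain ⟨_, _⟩ := hfib P
    haveI := isLocalRing_fibLocRing (A := A) P
    exact condS_atPrime_ascent 2 P (hasSk_loc_apply _ hS _ (Ideal.comap_mono hle))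
      (normal_conditions (EGA4.FibLocRing A B P)).1
  have h2 : LocCoh.HasRk 1 (Localization.AtPrime q) := hasRk_loc_of_forall 1 q fun P _ hle hk => by
    obtain ⟨_, _⟩ := hfib P
    haveI := isLocalRing_fibLocRing (A := A) P
    exact isRegular_atPrime_ascent P (hasRk_loc_apply _ hR _ (Ideal.comap_mono hle) ((height_comap_le P).trans hk))
      ((normal_conditions (EGA4.FibLocRing A B P)).2 ((ringKrullDim_fibLocRing_le (A := A) P).trans
        (WithBot.coe_le_coe.2 hk)))
  have h3 : LocCoh.HasSk 2 (Localization.AtPrime q) (Localization.AtPrime q) := (hasSk_iff_condS 2 _).2 fun P _ => by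
    let P₀ := P.comap (algebraMap B (Localization.AtPrime q))
    haveI : IsNoetherianRing (Localization.AtPrime P) := IsLocalization.isNoetherianRing P.primeCompl _ inferInstance
    haveI : IsNoetherianRing (Localization.AtPrime P₀) := IsLocalization.isNoetherianRing P₀.primeCompl _ inferInstance
    exact (key P₀ (comap_loc_le q P)).of_ringEquiv
      (IsLocalization.localizationLocalizationAtPrimeIsoLocalization q.primeCompl P).toRingEquiv
  obtain ⟨hd, hc⟩ := (S0601.result (Localization.AtPrime q)).2 ⟨h2, h3⟩ (maximalIdeal _)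
  let e := (IsLocalization.atUnits (Localization.AtPrime q) (maximalIdeal (Localization.AtPrime q)).primeCompl
    (S := Localization.AtPrime (maximalIdeal (Localization.AtPrime q)))
    (fun x hx => notMem_maximalIdeal.1 hx)).toRingEquiv
  haveI := e.toMulEquiv.isDomain (Localization.AtPrime (maximalIdeal (Localization.AtPrime q)))
  exact ⟨inferInstance, IsIntegrallyClosed.of_equiv e.symm⟩

end Groth.Agent.FlatDepth
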