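import Groth.Agent.FlatDepth.Serre
import Groth.Agent.Catenary.SerreNormal
import Groth.Agent.S0601
import Mathlib

/-!
Serre's conditions and normality in terms of fibre rings.
-/

set_option autoImplicit false
set_option linter.style.haveILetI false

namespace Groth.Agent.FlatDepth

universe u

open IsLocalRing

variable {A B : Type u} [CommRing A] [CommRing B] [Algebra A B]

theorem exists_fibre_equiv_aux (P : Ideal B) [P.IsPrime] (p : Ideal A) [p.IsPrime] (hp : P.comap (algebraMap A B) = p) :
    ∃ (Q : Ideal (p.Fiber B)) (_ : Q.IsPrime),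
      Nonempty (Localization.AtPrime Q ≃+* (Localization.AtPrime P ⧸ p.map (algebraMap A (Localization.AtPrime P)))) := by
  obtain ⟨Q, hQp, hQ⟩ := CMFlat.exists_prime_fiber P p hp
  haveI := hQp
  subst hQ
  haveI : (Q.comap (Algebra.TensorProduct.includeRight : B →ₐ[A] p.Fiber B)).LiesOver p := ⟨hp.symm⟩
  letI := Localization.AtPrime.algebraOfLiesOver p (Q.comap (Algebra.TensorProduct.includeRight : B →ₐ[A] p.Fiber B))
  exact ⟨Q, hQp, ⟨(Ideal.Fiber.localizationAlgEquivQuotient _ Q).toRingEquiv⟩⟩

/-- The fibre local ring as a localisation of the fibre ring. -/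
theorem exists_fibre_equiv (P : Ideal B) [P.IsPrime] :
    ∃ (Q : Ideal ((P.comap (algebraMap A B)).Fiber B)) (_ : Q.IsPrime),
      Nonempty (Localization.AtPrime Q ≃+* EGA4.FibLocRing A B P) :=
  exists_fibre_equiv_aux P _ rfl

theorem condS_fibLocRing [IsNoetherianRing B] (k : ℕ) (P : Ideal B) [P.IsPrime] [IsLocalRing (EGA4.FibLocRing A B P)]
    (h : LocCoh.HasSk k ((P.comap (algebraMap A B)).Fiber B) ((P.comap (algebraMap A B)).Fiber B)) :
    CondS k (EGA4.FibLocRing A B P) := by
  obtain ⟨Q, _, ⟨e⟩⟩ := exists_fibre_equiv (A := A) P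
  haveI : IsNoetherianRing (Localization.AtPrime Q) := isNoetherianRing_of_ringEquiv _ e.symm
  exact ((hasSk_iff_condS k _).1 h Q).of_ringEquiv e

theorem hasSk_of_flat_fibres [IsNoetherianRing A] [IsNoetherianRing B] [Module.Flat A B] (k : ℕ)
    (hA : LocCoh.HasSk k A A) (hfib : ∀ (p : Ideal A) [p.IsPrime], LocCoh.HasSk k (p.Fiber B) (p.Fiber B)) :
    LocCoh.HasSk k B B :=
  hasSk_of_flat k hA fun q _ _ => condS_fibLocRing k q (hfib _)

/-- A Noetherian local normal domain satisfies `(R_1)` and `(S_2)` at the closed point. -/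
theorem normal_conditions (T : Type u) [CommRing T] [IsLocalRing T] [IsNoetherianRing T] [IsDomain T]
    [IsIntegrallyClosed T] : CondS 2 T ∧ (ringKrullDim T ≤ 1 → IsRegularLocalRing T) := by
  refine ⟨condS_of_hasSk T ((S0601.result T).1 fun p _ => ?_).2, fun h => Catenary.isRegularLocalRing_of_normal h⟩
  exact ⟨IsLocalization.isDomain_localization p.primeCompl_le_nonZeroDivisors,
    isIntegrallyClosed_of_isLocalization _ p.primeCompl p.primeCompl_le_nonZeroDivisors⟩

/-- Normality ascends. -/
theorem normal_ascent [IsNoetherianRing A] [IsNoetherianRing B] [Module.Flat A B]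
    (hfib : ∀ (q : Ideal B) [q.IsPrime], IsDomain (EGA4.FibLocRing A B q) ∧ IsIntegrallyClosed (EGA4.FibLocRing A B q))
    (hA : ∀ (p : Ideal A) [p.IsPrime], IsDomain (Localization.AtPrime p) ∧ IsIntegrallyClosed (Localization.AtPrime p))
    (q : Ideal B) [q.IsPrime] : IsDomain (Localization.AtPrime q) ∧ IsIntegrallyClosed (Localization.AtPrime q) := by
  obtain ⟨hR, hS⟩ := (S0601.result A).1 hA
  refine (S0601.result B).2 ⟨hasRk_of_flat 1 hR fun P _ hP => ?_, hasSk_of_flat 2 hS fun P _ _ => ?_⟩ q
  · obtain ⟨_, _⟩ := hfib P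
    haveI := isLocalRing_fibLocRing (A := A) P
    exact (normal_conditions (EGA4.FibLocRing A B P)).2 ((ringKrullDim_fibLocRing_le (A := A) P).trans
      (WithBot.coe_le_coe.2 hP))
  · obtain ⟨_, _⟩ := hfib P
    exact (normal_conditions (EGA4.FibLocRing A B P)).1

/-- Normality descends along faithfully flat maps. -/
theorem isIntegrallyClosed_descent {R S : Type u} [CommRing R] [CommRing S] [Algebra R S]
    [Module.FaithfullyFlat R S] [IsDomain S] [IsIntegrallyClosed S] : IsDomain R ∧ IsIntegrallyClosed R := by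
  haveI hd : IsDomain R := Function.Injective.isDomain (algebraMap R S) (FaithfulSMul.algebraMap_injective R S)
  have hinj : Function.Injective ((algebraMap S (FractionRing S)).comp (algebraMap R S)) :=
    (IsFractionRing.injective S (FractionRing S)).comp (FaithfulSMul.algebraMap_injective R S)
  refine ⟨hd, (isIntegrallyClosed_iff (FractionRing R)).2 fun {x} hx => ?_⟩
  obtain ⟨a, b, hb, rfl⟩ := IsFractionRing.div_surjective R x
  have hb0 : b ≠ 0 := nonZeroDivisors.ne_zero hb
  let φ : FractionRing R →+* FractionRing S := IsFractionRing.lift hinj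
  have hφ : ∀ r, φ (algebraMap R (FractionRing R) r) = algebraMap S (FractionRing S) (algebraMap R S r) :=
    fun r => IsFractionRing.lift_algebraMap hinj r
  have hi : IsIntegral S (φ (algebraMap R (FractionRing R) a / algebraMap R (FractionRing R) b)) := by
    obtain ⟨f, hf, hfx⟩ := hx
    refine ⟨f.map (algebraMap R S), hf.map _, ?_⟩
    have h1 := congrArg φ hfx
    rw [Polynomial.hom_eval₂, map_zero] at h1
    rw [Polynomial.eval₂_map]
    rwa [show (algebraMap S (FractionRing S)).comp (algebraMap R S) = φ.comp (algebraMap R (FractionRing R)) from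
      RingHom.ext fun r => (hφ r).symm]
  obtain ⟨y, hy⟩ := IsIntegrallyClosed.isIntegral_iff.1 hi
  rw [map_div₀, hφ, hφ, eq_div_iff] at hy
  swap
  · exact fun h => hb0 (hinj (h.trans (map_zero ((algebraMap S (FractionRing S)).comp (algebraMap R S))).symm))
  rw [← map_mul] at hy
  have h2 : algebraMap R S a ∈ (Ideal.span {b}).map (algebraMap R S) := by
    rw [← IsFractionRing.injective S (FractionRing S) hy, Ideal.map_span, Set.image_singleton]
    exact Ideal.mul_mem_left _ _ (Ideal.subset_span rfl)
  rw [← Ideal.mem_comap, Ideal.comap_map_eq_self_of_faithfullyFlat, Ideal.mem_span_singleton] at h2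
  obtain ⟨c, rfl⟩ := h2
  refine ⟨c, ?_⟩
  rw [map_mul, mul_comm, mul_div_assoc, div_self fun h => hb0 (IsFractionRing.injective R (FractionRing R)
    (h.trans (map_zero _).symm)), mul_one]

theorem normal_atPrime_descent [IsNoetherianRing A] [IsNoetherianRing B] [Module.Flat A B] (q : Ideal B) [q.IsPrime]
    [IsDomain (Localization.AtPrime q)] [IsIntegrallyClosed (Localization.AtPrime q)] :
    IsDomain (Localization.AtPrime (q.comap (algebraMap A B))) ∧
      IsIntegrallyClosed (Localization.AtPrime (q.comap (algebraMap A B))) := by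
  let p := q.comap (algebraMap A B)
  haveI : q.LiesOver p := ⟨rfl⟩
  letI := Localization.AtPrime.algebraOfLiesOver p q
  obtain ⟨h1, h2, -⟩ := atPrime_setup q p
  haveI := h1
  haveI := h2
  haveI : Module.FaithfullyFlat (Localization.AtPrime p) (Localization.AtPrime q) :=
    Module.FaithfullyFlat.of_flat_of_isLocalHom
  exact isIntegrallyClosed_descent (R := Localization.AtPrime p) (S := Localization.AtPrime q)

end Groth.Agent.FlatDepth
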