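import Groth.Agent.FlatDepth.Quot
import Groth.Agent.AdicBasics.LocalMap
import Groth.Agent.RegLoc.Normal
import Groth.Agent.RegLoc.Order
import Groth.Agent.CMFlat.Quotient
import Mathlib

/-!
Regular homomorphisms and descent of properties of formal fibres.
-/

set_option autoImplicit false
set_option linter.style.haveILetI false

namespace Groth.Agent.FlatDepth

universe u

open IsLocalRing TensorProduct

/-- The map of completions of a local homomorphism. -/
theorem exists_cpl_map {A B : Type u} [CommRing A] [CommRing B] [IsLocalRing A] [IsLocalRing B]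
    [IsNoetherianRing A] [IsNoetherianRing B] (φ : A →+* B) [IsLocalHom φ] :
    ∃ ψ : AdicCompletion (maximalIdeal A) A →+* AdicCompletion (maximalIdeal B) B,
      ψ.comp (algebraMap A (AdicCompletion (maximalIdeal A) A)) = (algebraMap B (AdicCompletion (maximalIdeal B) B)).comp φ := by
  let A' := AdicCompletion (maximalIdeal A) A
  let B' := AdicCompletion (maximalIdeal B) B
  have hmap : (maximalIdeal A).map φ ≤ maximalIdeal B := Ideal.map_le_iff_le_comap.mpr fun a ha hu => ha
    (isUnit_of_map_unit φ a hu)
  have hle : ∀ n, maximalIdeal A ^ n ≤ (maximalIdeal B' ^ n).comap ((algebraMap B B').comp φ) := fun n => by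
    rw [← Ideal.map_le_iff_le_comap, ← Ideal.map_map, AdicCompletion.maximalIdeal_eq_map, ← Ideal.map_pow]
    refine Ideal.map_mono ?_
    rw [Ideal.map_pow]
    exact Ideal.pow_right_mono hmap n
  let f : ∀ n, A' →+* B' ⧸ maximalIdeal B' ^ n := fun n =>
    (Ideal.quotientMap _ _ (hle n)).comp (AdicCompletion.evalₐ (maximalIdeal A) n).toRingHom
  have hf : ∀ n x, ∀ a : A, x - algebraMap A A' a ∈ maximalIdeal A' ^ n → f n x = Ideal.Quotient.mk _ (algebraMap B B' (φ a)) := by
    intro n x a hxa
    have : f n (x - algebraMap A A' a) = 0 := by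
      have h1 : maximalIdeal A' ^ n ≤ RingHom.ker (f n) := by
        rw [AdicCompletion.maximalIdeal_eq_map, ← Ideal.map_pow, Ideal.map_le_iff_le_comap]
        intro r hr
        show (Ideal.quotientMap _ _ (hle n)) (AdicCompletion.evalₐ (maximalIdeal A) n (algebraMap A A' r)) = 0
        rw [AlgHom.commutes]
        show (Ideal.quotientMap _ _ (hle n)) (Ideal.Quotient.mk _ r) = 0
        rw [Ideal.Quotient.eq_zero_iff_mem.mpr hr, map_zero]
      exact h1 hxa
    rw [map_sub, sub_eq_zero] at this
    rw [this]
    show (Ideal.quotientMap _ _ (hle n)) (AdicCompletion.evalₐ (maximalIdeal A) n (algebraMap A A' a)) = _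
    rw [AlgHom.commutes]
    rfl
  have hcompat : ∀ {m n : ℕ} (h : m ≤ n), (Ideal.Quotient.factorPow (maximalIdeal B') h).comp (f n) = f m :=
    fun {m n} h => RingHom.ext fun x => by
      obtain ⟨a, ha⟩ := Cohen.exists_sub_mem_pow x n
      rw [RingHom.comp_apply, hf n x a ha, hf m x a (Ideal.pow_le_pow_right h ha)]
      exact Ideal.Quotient.factor_mk _ _
  let ψ := IsAdicComplete.liftRingHom (maximalIdeal B') f hcompat
  have hψ : ψ.comp (algebraMap A A') = (algebraMap B B').comp φ := RingHom.ext fun a => by
    refine sub_eq_zero.mp (IsHausdorff.haus' (I := maximalIdeal B') _ fun n => ?_)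
    rw [SModEq.sub_mem, sub_zero, smul_eq_mul, Ideal.mul_top, ← Ideal.Quotient.eq, RingHom.comp_apply,
      IsAdicComplete.mk_liftRingHom, hf n _ a (by simp)]
    rfl
  exact ⟨ψ, hψ⟩

theorem isNormalRing_of_isRegularRing (R : Type u) [CommRing R] [IsRegularRing R] : EGA4.IsNormalRing R :=
  fun p _ => by
    haveI := RegLoc.isDomain (A := Localization.AtPrime p)
    exact ⟨inferInstance, RegLoc.isIntegrallyClosed⟩

theorem isReduced_of_isNormalRing (R : Type u) [CommRing R] (h : EGA4.IsNormalRing R) : IsReduced R := by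
  haveI : ∀ p : MaximalSpectrum R, IsReduced (Localization.AtPrime p.asIdeal) := fun p => by
    obtain ⟨_, -⟩ := h p.asIdeal
    infer_instance
  exact isReduced_of_injective (MaximalSpectrum.toPiLocalization R) (MaximalSpectrum.toPiLocalization_injective R)

theorem geomNormal_of_geomRegular {k S : Type u} [Field k] [CommRing S] [Algebra k S]
    (h : CAlg.IsGeometricallyRegular k S) : EGA4.IsGeomNormal k S := fun K _ _ hK => by
  haveI := h K hK
  exact isNormalRing_of_isRegularRing _

theorem geomReduced_of_finite {k R : Type u} [Field k] [CommRing R] [Algebra k R]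
    (h : ∀ (K : Type u) [Field K] [Algebra k K], Module.Finite k K → IsReduced (K ⊗[k] R)) :
    Algebra.IsGeometricallyReduced k R := by
  rw [Algebra.isGeometricallyReduced_field_iff]
  haveI : IsReduced (R ⊗[k] AlgebraicClosure k) :=
    IsReduced.tensorProduct_of_flat_of_forall_fg fun D hD => by
      haveI : Algebra.FiniteType k D := (Subalgebra.fg_iff_finiteType D).1 hD
      haveI : Algebra.IsIntegral k D := Algebra.IsIntegral.of_injective D.val Subtype.val_injective
      haveI : Module.Finite k D := Algebra.IsIntegral.finite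
      let L : IntermediateField k (AlgebraicClosure k) := D.toIntermediateField' (Subalgebra.isField_of_algebraic D)
      let e : L ≃ₐ[k] D := Subalgebra.equivOfEq _ _ (rfl : L.toSubalgebra = D)
      haveI : Module.Finite k L := Module.Finite.equiv e.symm.toLinearEquiv
      haveI := h L inferInstance
      exact isReduced_of_injective ((Algebra.TensorProduct.congr e.symm AlgEquiv.refl).toRingEquiv.toRingHom.comp
          (Algebra.TensorProduct.comm k R D).toRingEquiv.toRingHom)
        ((Algebra.TensorProduct.congr e.symm AlgEquiv.refl).injective.comp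
          (Algebra.TensorProduct.comm k R D).injective)
  exact isReduced_of_injective (Algebra.TensorProduct.comm k _ _) (Algebra.TensorProduct.comm k _ _).injective

theorem geomReduced_of_geomNormal {k S : Type u} [Field k] [CommRing S] [Algebra k S]
    (h : EGA4.IsGeomNormal k S) : Algebra.IsGeometricallyReduced k S :=
  geomReduced_of_finite fun K _ _ hK => isReduced_of_isNormalRing _ (h K hK)

theorem isNormalHom_of_isRegularHom {R S : Type u} [CommRing R] [CommRing S] [Algebra R S]
    (h : CAlg.IsRegularHom R S) : EGA4.IsNormalHom R S :=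
  ⟨h.1, fun p _ => geomNormal_of_geomRegular (h.2 p).2⟩

theorem isCM_of_isRegularRing (R : Type u) [CommRing R] [IsRegularRing R] : LocCoh.IsCohenMacaulayRing R :=
  ⟨fun p _ => CMFlat.isCohenMacaulayLocalRing_of_isRegularLocalRing _⟩

theorem isCM_of_equiv {R R' : Type u} [CommRing R] [CommRing R'] (e : R ≃+* R') (h : LocCoh.IsCohenMacaulayRing R) :
    LocCoh.IsCohenMacaulayRing R' := by
  haveI := h
  haveI : IsNoetherianRing R' := isNoetherianRing_of_ringEquiv R e
  exact ⟨fun p _ => CMFlat.isCohenMacaulay_localization_of_ringEquiv e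
    (fun P _ => h.isCohenMacaulayLocalRing_localization P) p⟩

theorem cmFibres_comp {A B C : Type u} [CommRing A] [CommRing B] [CommRing C] [IsNoetherianRing B]
    [IsNoetherianRing C] [Algebra A B] [Algebra B C] [Algebra A C] [IsScalarTower A B C]
    (hAB : ∀ (p : Ideal A) [p.IsPrime], LocCoh.IsCohenMacaulayRing (p.Fiber B)) (hBC : CAlg.IsRegularHom B C)
    (p : Ideal A) [p.IsPrime] : LocCoh.IsCohenMacaulayRing (p.Fiber C) := by
  obtain ⟨_, hBC⟩ := hBC
  refine comp_ascent (A := A) (B := B) (C := C) p p.ResidueField (fun R _ => LocCoh.IsCohenMacaulayRing R)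
    (fun _ _ _ _ e h => isCM_of_equiv e h) ?_ (hAB p) fun q _ κ _ _ hκ => ?_
  · intro R S _ _ _ _ _ _ hR hF
    haveI := hR
    exact CMFlat.isCohenMacaulayRing_of_fibers fun Q _ P _ => (hF Q).isCohenMacaulayLocalRing_localization P
  · haveI := (hBC q).2 κ hκ
    exact isCM_of_isRegularRing _

theorem cm_descent {A B : Type u} [CommRing A] [CommRing B] [IsNoetherianRing A] [IsNoetherianRing B]
    [Algebra A B] [Module.FaithfullyFlat A B] (h : LocCoh.IsCohenMacaulayRing B) : LocCoh.IsCohenMacaulayRing A := by
  refine ⟨fun p _ => ?_⟩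
  obtain ⟨P, _, hP, -⟩ := exists_minimal_over (B := B) p
  obtain ⟨Q, _, hQ⟩ := CMFlat.exists_prime_fiber P p hP
  exact ((CMFlat.isCohenMacaulay_atPrime_iff P p Q hQ).1 (h.isCohenMacaulayLocalRing_localization P)).1

/-- The setting for descending properties of formal fibres from `A'` to `A`. -/
theorem formal_setup (A A' : Type u) [CommRing A] [CommRing A'] [IsNoetherianRing A] [IsNoetherianRing A']
    [IsLocalRing A] [IsLocalRing A'] [Algebra A A'] [IsLocalHom (algebraMap A A')] [Module.Flat A A'] :
    ∃ (_ : Algebra (EGA4.Cpl A) (EGA4.Cpl A')),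
      IsScalarTower A (EGA4.Cpl A) (EGA4.Cpl A') ∧ IsScalarTower A A' (EGA4.Cpl A') ∧
        Module.FaithfullyFlat (EGA4.Cpl A) (EGA4.Cpl A') := by
  obtain ⟨ψ, hψ⟩ := exists_cpl_map (algebraMap A A')
  letI := ψ.toAlgebra
  haveI htower : IsScalarTower A A' (EGA4.Cpl A') := inferInstance
  haveI : IsLocalHom (algebraMap (EGA4.Cpl A) (EGA4.Cpl A')) := AdicBasics.isLocalHom_completionMap _ ψ hψ
  haveI : Module.Flat (EGA4.Cpl A) (EGA4.Cpl A') :=
    (AdicBasics.flat_completionMap_iff (algebraMap A A') ψ hψ).2 (RingHom.flat_algebraMap_iff.2 inferInstance)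
  exact ⟨inferInstance, IsScalarTower.of_algebraMap_eq fun a =>
    (IsScalarTower.algebraMap_apply A A' (EGA4.Cpl A') a).trans (RingHom.congr_fun hψ a).symm, htower, Module.FaithfullyFlat.of_flat_of_isLocalHom⟩

end Groth.Agent.FlatDepth
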