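import Groth.Agent.FlatDepth.RegHom
import Mathlib

/-!
Fibre properties under localisation of the base.
-/

set_option autoImplicit false
set_option linter.style.haveILetI false

namespace Groth.Agent.FlatDepth

universe u

open IsLocalRing TensorProduct

/-- Fibres along a pushout square with surjective-on-stalks base map. -/
theorem fibre_pushout {A B A' B' : Type u} [CommRing A] [CommRing B] [CommRing A'] [CommRing B'] [Algebra A B]
    [Algebra A A'] [Algebra B B'] [Algebra A' B'] [Algebra A B'] [IsScalarTower A A' B'] [IsScalarTower A B B']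
    [Algebra.IsPushout A A' B B'] (hs : (algebraMap A A').SurjectiveOnStalks) (q : Ideal A') [q.IsPrime]
    (K : Type u) [CommRing K] [Algebra q.ResidueField K] :
    ∃ (_ : Algebra (q.comap (algebraMap A A')).ResidueField K),
      (Module.Finite q.ResidueField K → Module.Finite (q.comap (algebraMap A A')).ResidueField K) ∧
      Nonempty ((K ⊗[q.ResidueField] q.Fiber B') ≃+*
        (K ⊗[(q.comap (algebraMap A A')).ResidueField] (q.comap (algebraMap A A')).Fiber B)) := by
  let p := q.comap (algebraMap A A')
  let φ := Ideal.ResidueField.map p q (algebraMap A A') rfl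
  have hbij : Function.Bijective φ := hs.residueFieldMap_bijective p q rfl
  letI := φ.toAlgebra
  letI : Algebra p.ResidueField K := ((algebraMap q.ResidueField K).comp φ).toAlgebra
  haveI : IsScalarTower p.ResidueField q.ResidueField K := IsScalarTower.of_algebraMap_eq fun _ => rfl
  refine ⟨inferInstance, fun h => ?_, ?_⟩
  · haveI : Module.Finite p.ResidueField q.ResidueField :=
      Module.Finite.of_surjective (Algebra.linearMap p.ResidueField q.ResidueField) hbij.2
    exact Module.Finite.trans q.ResidueField K
  letI : Algebra A' K := ((algebraMap q.ResidueField K).comp (algebraMap A' q.ResidueField)).toAlgebra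
  haveI : IsScalarTower A' q.ResidueField K := IsScalarTower.of_algebraMap_eq fun _ => rfl
  letI : Algebra A K := ((algebraMap A' K).comp (algebraMap A A')).toAlgebra
  haveI : IsScalarTower A A' K := IsScalarTower.of_algebraMap_eq fun _ => rfl
  haveI : IsScalarTower A p.ResidueField K := IsScalarTower.of_algebraMap_eq fun a => by
    show algebraMap q.ResidueField K (algebraMap A' q.ResidueField (algebraMap A A' a)) =
      algebraMap q.ResidueField K (φ (algebraMap A p.ResidueField a))
    rw [Ideal.ResidueField.map_algebraMap]
  exact ⟨(Algebra.TensorProduct.cancelBaseChange A' q.ResidueField K K B').toRingEquiv.trans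
    (((Algebra.TensorProduct.congr (AlgEquiv.refl (R := A') (A₁ := K))
        (Algebra.IsPushout.equiv A A' B B')).symm.toRingEquiv.trans
      (Algebra.TensorProduct.cancelBaseChange A A' K K B).toRingEquiv).trans
    (Algebra.TensorProduct.cancelBaseChange A p.ResidueField K K B).symm.toRingEquiv)⟩

variable {A B : Type u} [CommRing A] [CommRing B] [Algebra A B] (S : Submonoid A) (A' B' : Type u) [CommRing A']
  [CommRing B'] [Algebra A A'] [Algebra B B'] [Algebra A' B'] [Algebra A B'] [IsScalarTower A A' B']
  [IsScalarTower A B B'] [IsLocalization S A'] [IsLocalization (Algebra.algebraMapSubmonoid B S) B']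

include S in
theorem localize_setup : (algebraMap A A').SurjectiveOnStalks ∧ Algebra.IsPushout A A' B B' :=
  ⟨RingHom.surjectiveOnStalks_of_isLocalization (M := S) A',
    (Algebra.isPushout_of_isLocalization (R := A) (A := A') S B B').symm⟩

include S in
theorem flat_localize [Module.Flat A B] : Module.Flat A' B' := by
  haveI := (localize_setup (A := A) (B := B) S A' B').2
  exact Module.Flat.of_linearEquiv (Algebra.IsPushout.equiv A A' B B').symm.toLinearEquiv

include S in
theorem geomNormal_localize (h : EGA4.IsNormalHom A B) : EGA4.IsNormalHom A' B' := by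
  obtain ⟨hs, _⟩ := localize_setup (A := A) (B := B) S A' B'
  obtain ⟨_, h⟩ := h
  refine ⟨flat_localize (A := A) (B := B) S A' B', fun q _ K _ _ hK => ?_⟩
  obtain ⟨_, hfin, ⟨e⟩⟩ := fibre_pushout (B := B) (B' := B') hs q K
  exact isNormalRing_of_equiv e.symm (h _ K (hfin hK))

include S in
theorem geomReduced_localize (h : ∀ (p : Ideal A) [p.IsPrime], Algebra.IsGeometricallyReduced p.ResidueField (p.Fiber B))
    (q : Ideal A') [q.IsPrime] : Algebra.IsGeometricallyReduced q.ResidueField (q.Fiber B') := by
  obtain ⟨hs, _⟩ := localize_setup (A := A) (B := B) S A' B'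
  refine geomReduced_of_finite fun K _ _ _ => ?_
  obtain ⟨_, -, ⟨e⟩⟩ := fibre_pushout (B := B) (B' := B') hs q K
  haveI := h (q.comap (algebraMap A A'))
  haveI := GeomRedPull.isReduced_field_tensor (k := (q.comap (algebraMap A A')).ResidueField)
    (A := (q.comap (algebraMap A A')).Fiber B) K
  exact isReduced_of_injective e e.injective

include S in
theorem regular_localize [IsNoetherianRing A] [IsNoetherianRing B] (h : CAlg.IsRegularHom A B) :
    CAlg.IsRegularHom A' B' := by
  obtain ⟨hs, _⟩ := localize_setup (A := A) (B := B) S A' B'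
  obtain ⟨_, h⟩ := h
  refine ⟨flat_localize (A := A) (B := B) S A' B', fun q _ => ⟨?_, fun K _ _ hK => ?_⟩⟩
  · haveI : IsNoetherianRing B' := IsLocalization.isNoetherianRing (Algebra.algebraMapSubmonoid B S) B' inferInstance
    exact isNoetherianRing_tensor_essFinite A' B' q.ResidueField
  · obtain ⟨_, hfin, ⟨e⟩⟩ := fibre_pushout (B := B) (B' := B') hs q K
    haveI := (h (q.comap (algebraMap A A'))).2 K (hfin hK)
    exact IsRegularRing.of_ringEquiv (R := K ⊗[(q.comap (algebraMap A A')).ResidueField] (q.comap (algebraMap A A')).Fiber B) e.symm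

end Groth.Agent.FlatDepth
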