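import Groth.Agent.FlatDepth.Basic
import Groth.Agent.CMFlat.FiberRing
import Groth.Agent.SerreReg.Descent
import Groth.Agent.Hensel.Fibres
import Groth.Agent.InvFin.Depth
import Groth.Agent.LocH.AdjDepthChange
import Mathlib

/-!
Serre's conditions `(S_k)` and `(R_k)` along flat ring maps.
-/

set_option autoImplicit false
set_option linter.style.haveILetI false

namespace Groth.Agent.FlatDepth

universe u

open IsLocalRing

/-- `(S_k)` at the closed point. -/
def CondS (k : ℕ) (T : Type u) [CommRing T] [IsLocalRing T] : Prop :=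
  min (k : WithBot ℕ∞) (ringKrullDim T) ≤ ((LocCoh.depth T T : ℕ∞) : WithBot ℕ∞)

theorem hasSk_iff_condS (k : ℕ) (T : Type u) [CommRing T] :
    LocCoh.HasSk k T T ↔ ∀ (q : Ideal T) [q.IsPrime], CondS k (Localization.AtPrime q) :=
  Hensel.hasSk_self_iff k T

theorem depth_ringEquiv {T T' : Type u} [CommRing T] [IsLocalRing T] [IsNoetherianRing T] [CommRing T']
    [IsLocalRing T'] [IsNoetherianRing T'] (e : T ≃+* T') : LocCoh.depth T T = LocCoh.depth T' T' := by
  letI := e.toRingHom.toAlgebra
  haveI : Module.Finite T T' := Module.Finite.of_surjective (Algebra.linearMap T T') e.surjective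
  rw [← LocH.depth_eq_of_surjective (A := T) (B := T') e.surjective T']
  exact LocH.idealDepth_congr (LinearEquiv.ofBijective (Algebra.linearMap T T') e.bijective) _

theorem CondS.of_ringEquiv {k : ℕ} {T T' : Type u} [CommRing T] [IsLocalRing T] [IsNoetherianRing T] [CommRing T']
    [IsLocalRing T'] [IsNoetherianRing T'] (h : CondS k T) (e : T ≃+* T') : CondS k T' := by
  rw [CondS] at h ⊢
  rwa [← depth_ringEquiv e, ← ringKrullDim_eq_of_ringEquiv e]

theorem condS_iff {k : ℕ} {T : Type u} [CommRing T] [IsLocalRing T] {c : ℕ} (hc : ringKrullDim T = (c : WithBot ℕ∞)) :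
    CondS k T ↔ ((min k c : ℕ) : ℕ∞) ≤ LocCoh.depth T T := by
  rw [CondS, hc, ← WithBot.coe_natCast k, ← WithBot.coe_natCast c, ← WithBot.coe_min, WithBot.coe_le_coe,
    ← Nat.mono_cast.map_min]

/-- The condition at the closed point as the condition at the maximal ideal. -/
theorem condS_of_hasSk {k : ℕ} (T : Type u) [CommRing T] [IsLocalRing T] [IsNoetherianRing T]
    (h : LocCoh.HasSk k T T) : CondS k T := by
  haveI : IsNoetherianRing (Localization.AtPrime (maximalIdeal T)) :=
    IsLocalization.isNoetherianRing (maximalIdeal T).primeCompl _ inferInstance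
  refine ((hasSk_iff_condS k T).1 h (maximalIdeal T)).of_ringEquiv ?_
  exact (IsLocalization.atUnits T (maximalIdeal T).primeCompl
    (fun x hx => notMem_maximalIdeal.1 hx)).symm.toRingEquiv

section loc

variable {R S : Type u} [CommRing R] [CommRing S] [IsLocalRing R] [IsLocalRing S] [IsNoetherianRing R]
  [IsNoetherianRing S] [Algebra R S] [IsLocalHom (algebraMap R S)] [Module.Flat R S]

set_option quotPrecheck false in
local notation "F" => S ⧸ (maximalIdeal R).map (algebraMap R S)

theorem nontrivial_fibre : Nontrivial F :=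
  Ideal.Quotient.nontrivial_iff.mpr
    fun h => (maximalIdeal.isMaximal S).ne_top (top_le_iff.mp (h.ge.trans CMFlat.map_le))

/-- Depth is additive along flat local homomorphisms. -/
theorem depth_eq_add [IsLocalRing F] :
    LocCoh.depth S S = LocCoh.depth R R + LocCoh.depth F F := by
  have h := depth_tensor (R := R) (S := S) S R
  let e : TensorProduct R S R ≃ₗ[S] S := TensorProduct.AlgebraTensorModule.rid R S S
  rw [show LocCoh.depth S (TensorProduct R S R) = LocCoh.depth S S from LocH.idealDepth_congr e _] at h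
  rw [h]
  congr 1
  rw [← LocH.depth_eq_of_surjective (A := S) (B := F) Ideal.Quotient.mk_surjective F]
  exact LocH.idealDepth_congr (Submodule.quotEquivOfEq _ _ (by rw [smul_eq_mul, Ideal.mul_top])) _

theorem condS_ascent [IsLocalRing F] {k : ℕ} (hR : CondS k R) (hF : CondS k F) : CondS k S := by
  obtain ⟨c, e, hc, he, hce⟩ := CMFlat.dims (R := R) (S := S)
  rw [condS_iff hc] at hR
  rw [condS_iff he] at hF
  rw [condS_iff hce, depth_eq_add (R := R)]
  exact le_trans (Nat.cast_le.2 (by omega)) ((Nat.cast_add _ _).le.trans (add_le_add hR hF))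

theorem depth_fibre_eq_zero [IsLocalRing F] (h0 : ringKrullDim F = 0) : LocCoh.depth F F = 0 := by
  refine nonpos_iff_eq_zero.1 ?_
  have h := InvFin.depth_le_supportDim (A := F) F (n := 0)
    (by rw [Module.supportDim_self_eq_ringKrullDim, h0]; rfl)
  exact_mod_cast h

theorem condS_descent [IsLocalRing F] {k : ℕ} (h0 : ringKrullDim F = 0) (hS : CondS k S) : CondS k R := by
  obtain ⟨c, e, hc, he, hce⟩ := CMFlat.dims (R := R) (S := S)
  have he0 : e = 0 := by rw [h0] at he; exact_mod_cast he.symm
  subst he0
  rw [condS_iff hce, depth_eq_add (R := R), depth_fibre_eq_zero h0, add_zero, add_zero] at hS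
  rwa [condS_iff hc]

theorem isRegularLocalRing_ascent (hR : IsRegularLocalRing R) [hF : IsRegularLocalRing F] :
    IsRegularLocalRing S := by
  obtain ⟨c, e, hc, he, hce⟩ := CMFlat.dims (R := R) (S := S)
  refine IsRegularLocalRing.of_spanFinrank_maximalIdeal_le S ?_
  rw [hce]
  have h1 := IsRegularLocalRing.spanFinrank_maximalIdeal (R := R)
  have h2 := IsRegularLocalRing.spanFinrank_maximalIdeal (R := F)
  rw [hc] at h1
  rw [he] at h2
  norm_cast at h1 h2 ⊢
  obtain ⟨g, hg, hgs⟩ := Submodule.FG.exists_span_finset_card_eq_spanFinrank (IsNoetherian.noetherian (maximalIdeal R))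
  obtain ⟨g', hg', hgs'⟩ := Submodule.FG.exists_span_finset_card_eq_spanFinrank (IsNoetherian.noetherian (maximalIdeal F))
  classical
  choose l hl using fun x : F => Ideal.Quotient.mk_surjective x
  let G : Finset S := g.image (algebraMap R S) ∪ g'.image l
  have hG : maximalIdeal S = Submodule.span S (G : Set S) := by
    rw [Finset.coe_union, Finset.coe_image, Finset.coe_image, Submodule.span_union]
    change maximalIdeal S = Ideal.span _ ⊔ Ideal.span _
    rw [← Ideal.map_span, show Ideal.span (g : Set R) = maximalIdeal R from hgs]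
    refine le_antisymm (fun x hx => ?_) (sup_le CMFlat.map_le (Ideal.span_le.2 ?_))
    · haveI : IsLocalHom (Ideal.Quotient.mk ((maximalIdeal R).map (algebraMap R S))) :=
        IsLocalHom.of_surjective _ Ideal.Quotient.mk_surjective
      have hx' : Ideal.Quotient.mk _ x ∈ maximalIdeal F := fun hu =>
        hx (isUnit_of_map_unit (Ideal.Quotient.mk ((maximalIdeal R).map (algebraMap R S))) x hu)
      have h3 : Ideal.Quotient.mk ((maximalIdeal R).map (algebraMap R S)) x ∈ (Ideal.span (l '' (g' : Set F))).map
          (Ideal.Quotient.mk ((maximalIdeal R).map (algebraMap R S))) := by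
        rw [Ideal.map_span, ← Set.image_comp, show ⇑(Ideal.Quotient.mk ((maximalIdeal R).map (algebraMap R S))) ∘ l = id from funext hl, Set.image_id,
          show Ideal.span (g' : Set F) = maximalIdeal F from hgs']
        exact hx'
      rw [← Ideal.mem_comap, Ideal.comap_map_of_surjective _ Ideal.Quotient.mk_surjective,
        ← RingHom.ker_eq_comap_bot, Ideal.mk_ker, sup_comm] at h3
      exact h3
    · rintro _ ⟨y, hy, rfl⟩
      refine fun hu => ?_
      have h3 : y ∈ maximalIdeal F := by
        rw [← hgs']; exact Submodule.subset_span hy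
      exact h3 (hl y ▸ hu.map _)
  rw [hG]
  refine (Submodule.spanFinrank_span_le_ncard_of_finite G.finite_toSet).trans ?_
  rw [Set.ncard_coe_finset]
  exact ((Finset.card_union_le _ _).trans (add_le_add Finset.card_image_le Finset.card_image_le)).trans (by lia)

end loc

section prime

variable {A B : Type u} [CommRing A] [CommRing B] [IsNoetherianRing A] [IsNoetherianRing B] [Algebra A B]
  [Module.Flat A B]

/-- Everything one needs at a prime. -/
theorem atPrime_setup (P : Ideal B) [P.IsPrime] (p : Ideal A) [p.IsPrime] [P.LiesOver p]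
    [Algebra (Localization.AtPrime p) (Localization.AtPrime P)] [Localization.AtPrime.IsLiesOverAlgebra p P] :
    IsLocalHom (algebraMap (Localization.AtPrime p) (Localization.AtPrime P)) ∧
    Module.Flat (Localization.AtPrime p) (Localization.AtPrime P) ∧
    (maximalIdeal (Localization.AtPrime p)).map (algebraMap (Localization.AtPrime p) (Localization.AtPrime P)) =
      p.map (algebraMap A (Localization.AtPrime P)) := by
  haveI : Module.Flat B (Localization.AtPrime P) := IsLocalization.flat _ P.primeCompl
  haveI : Module.Flat A (Localization.AtPrime P) := Module.Flat.trans A B _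
  have hmap : p.map (algebraMap A (Localization.AtPrime P)) =
      (maximalIdeal (Localization.AtPrime p)).map (algebraMap (Localization.AtPrime p) (Localization.AtPrime P)) := by
    rw [← Localization.AtPrime.map_eq_maximalIdeal, Ideal.map_map, ← IsScalarTower.algebraMap_eq]
  refine ⟨?_, (Module.flat_iff_of_isLocalization (Localization.AtPrime p) p.primeCompl _).2 inferInstance, hmap.symm⟩
  refine ((local_hom_TFAE _).out 0 2).2 ?_
  rw [← hmap, IsScalarTower.algebraMap_eq A B, ← Ideal.map_map, ← Localization.AtPrime.map_eq_maximalIdeal]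
  exact Ideal.map_mono (Ideal.map_le_iff_le_comap.2 (P.over_def p).le)

theorem condS_atPrime_ascent (k : ℕ) (P : Ideal B) [P.IsPrime]
    [IsLocalRing (EGA4.FibLocRing A B P)]
    (hA : CondS k (Localization.AtPrime (P.comap (algebraMap A B)))) (hF : CondS k (EGA4.FibLocRing A B P)) :
    CondS k (Localization.AtPrime P) := by
  let p := P.comap (algebraMap A B)
  haveI : P.LiesOver p := ⟨rfl⟩
  letI := Localization.AtPrime.algebraOfLiesOver p P
  obtain ⟨h1, h2, h3⟩ := atPrime_setup P p
  haveI := h1
  haveI := h2
  haveI : IsLocalRing (Localization.AtPrime P ⧸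
      (maximalIdeal (Localization.AtPrime p)).map (algebraMap (Localization.AtPrime p) (Localization.AtPrime P))) := by
    rw [h3]; infer_instance
  exact condS_ascent (R := Localization.AtPrime p) hA (hF.of_ringEquiv (Ideal.quotEquivOfEq h3.symm))

theorem isRegular_atPrime_ascent (P : Ideal B) [P.IsPrime]
    (hA : IsRegularLocalRing (Localization.AtPrime (P.comap (algebraMap A B))))
    (hF : IsRegularLocalRing (EGA4.FibLocRing A B P)) : IsRegularLocalRing (Localization.AtPrime P) := by
  let p := P.comap (algebraMap A B)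
  haveI : P.LiesOver p := ⟨rfl⟩
  letI := Localization.AtPrime.algebraOfLiesOver p P
  obtain ⟨h1, h2, h3⟩ := atPrime_setup P p
  haveI := h1
  haveI := h2
  haveI := IsRegularLocalRing.of_ringEquiv (Ideal.quotEquivOfEq h3.symm :
    EGA4.FibLocRing A B P ≃+* Localization.AtPrime P ⧸
      (maximalIdeal (Localization.AtPrime p)).map (algebraMap (Localization.AtPrime p) (Localization.AtPrime P)))
  exact isRegularLocalRing_ascent (R := Localization.AtPrime p) hA

theorem height_comap_le (P : Ideal B) [P.IsPrime] : (P.comap (algebraMap A B)).height ≤ P.height := by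
  haveI : P.LiesOver (P.comap (algebraMap A B)) := ⟨rfl⟩
  rw [Ideal.height_eq_height_add_of_liesOver_of_hasGoingDown (P.comap (algebraMap A B)) P]
  exact le_self_add

theorem ringKrullDim_fibLocRing_le (P : Ideal B) [P.IsPrime] :
    ringKrullDim (EGA4.FibLocRing A B P) ≤ (P.height : WithBot ℕ∞) :=
  (ringKrullDim_le_of_surjective _ Ideal.Quotient.mk_surjective).trans
    (IsLocalization.AtPrime.ringKrullDim_eq_height P _).le

theorem isLocalRing_fibLocRing (P : Ideal B) [P.IsPrime] : IsLocalRing (EGA4.FibLocRing A B P) := by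
  haveI : Nontrivial (EGA4.FibLocRing A B P) := by
    refine Ideal.Quotient.nontrivial_iff.2 (ne_top_of_le_ne_top (maximalIdeal.isMaximal _).ne_top ?_)
    rw [IsScalarTower.algebraMap_eq A B, ← Ideal.map_map, ← Localization.AtPrime.map_eq_maximalIdeal]
    exact Ideal.map_mono Ideal.map_comap_le
  exact IsLocalRing.of_surjective' _ Ideal.Quotient.mk_surjective

/-- `(S_k)` ascends. -/
theorem hasSk_of_flat (k : ℕ) (hA : LocCoh.HasSk k A A)
    (hfib : ∀ (q : Ideal B) [q.IsPrime] [IsLocalRing (EGA4.FibLocRing A B q)], CondS k (EGA4.FibLocRing A B q)) :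
    LocCoh.HasSk k B B := by
  rw [hasSk_iff_condS] at hA ⊢
  intro P hP
  haveI := isLocalRing_fibLocRing (A := A) P
  exact condS_atPrime_ascent k P (hA _) (hfib P)

/-- `(R_k)` ascends. -/
theorem hasRk_of_flat (k : ℕ) (hA : LocCoh.HasRk k A)
    (hfib : ∀ (q : Ideal B) [q.IsPrime], q.height ≤ k → IsRegularLocalRing (EGA4.FibLocRing A B q)) :
    LocCoh.HasRk k B := fun P _ hP =>
  isRegular_atPrime_ascent P (hA _ ((height_comap_le P).trans hP)) (hfib P hP)

/-- A prime of a faithfully flat extension which is minimal over a given prime. -/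
theorem exists_minimal_over [Module.FaithfullyFlat A B] (p : Ideal A) [p.IsPrime] :
    ∃ P : Ideal B, P.IsPrime ∧ P.comap (algebraMap A B) = p ∧ P ∈ (p.map (algebraMap A B)).minimalPrimes := by
  obtain ⟨T, hT⟩ := PrimeSpectrum.comap_surjective_of_faithfullyFlat (A := A) (B := B) ⟨p, inferInstance⟩
  have hT' : T.asIdeal.comap (algebraMap A B) = p := congrArg PrimeSpectrum.asIdeal hT
  obtain ⟨P, hP, hle⟩ := Ideal.exists_minimalPrimes_le (Ideal.map_le_iff_le_comap.2 hT'.ge)
  exact ⟨P, hP.1.1, le_antisymm ((Ideal.comap_mono hle).trans hT'.le) (Ideal.map_le_iff_le_comap.1 hP.1.2), hP⟩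

theorem ringKrullDim_fibLocRing_eq_zero (P : Ideal B) [P.IsPrime]
    (hP : P ∈ ((P.comap (algebraMap A B)).map (algebraMap A B)).minimalPrimes) :
    ringKrullDim (EGA4.FibLocRing A B P) = 0 := by
  haveI := isLocalRing_fibLocRing (A := A) P
  haveI : Ring.KrullDimLE 0 (EGA4.FibLocRing A B P) := by
    refine Ring.krullDimLE_zero_iff.2 fun Q hQ => ?_
    have h1 : maximalIdeal (Localization.AtPrime P) ≤ Q.comap (Ideal.Quotient.mk _) := by
      refine le_of_eq_of_le ?_ ((Ideal.IsPrime.radical_le_iff (Ideal.IsPrime.comap _)).2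
        (le_of_eq_of_le Ideal.mk_ker.symm (Ideal.comap_mono bot_le)))
      rw [IsScalarTower.algebraMap_eq A B, ← Ideal.map_map,
        IsLocalization.AtPrime.radical_map_of_mem_minimalPrimes (Localization.AtPrime P) P _ hP,
        Localization.AtPrime.map_eq_maximalIdeal]
    have h2 : (Q.comap (Ideal.Quotient.mk _)).IsMaximal := by
      rw [((maximalIdeal.isMaximal (Localization.AtPrime P)).eq_of_le (Ideal.IsPrime.comap _).ne_top h1).symm]
      infer_instance
    rw [← Ideal.map_comap_of_surjective _ Ideal.Quotient.mk_surjective Q]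
    exact (Ideal.map_eq_top_or_isMaximal_of_surjective _ Ideal.Quotient.mk_surjective h2).resolve_left
      fun h => hQ.ne_top (by rw [← Ideal.map_comap_of_surjective _ Ideal.Quotient.mk_surjective Q, h])
  exact ringKrullDimZero_iff_ringKrullDim_eq_zero.1 inferInstance

/-- `(S_k)` descends. -/
theorem hasSk_descent [Module.FaithfullyFlat A B] (k : ℕ) (hB : LocCoh.HasSk k B B) : LocCoh.HasSk k A A := by
  rw [hasSk_iff_condS] at hB ⊢
  intro p hp
  obtain ⟨P, _, rfl, hP⟩ := exists_minimal_over (B := B) p
  have h0 := ringKrullDim_fibLocRing_eq_zero (A := A) P hP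
  let p := P.comap (algebraMap A B)
  haveI : P.LiesOver p := ⟨rfl⟩
  letI := Localization.AtPrime.algebraOfLiesOver p P
  obtain ⟨h1, h2, h3⟩ := atPrime_setup P p
  haveI := h1
  haveI := h2
  haveI : IsLocalRing (Localization.AtPrime P ⧸
      (maximalIdeal (Localization.AtPrime p)).map (algebraMap (Localization.AtPrime p) (Localization.AtPrime P))) := by
    rw [h3]; exact isLocalRing_fibLocRing P
  exact condS_descent (R := Localization.AtPrime p)
    ((ringKrullDim_eq_of_ringEquiv (Ideal.quotEquivOfEq h3)).trans h0) (hB P)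

omit [IsNoetherianRing A] in
/-- Regularity descends at a prime. -/
theorem isRegular_atPrime_descent [IsNoetherianRing A] (P : Ideal B) [P.IsPrime]
    (hB : IsRegularLocalRing (Localization.AtPrime P)) :
    IsRegularLocalRing (Localization.AtPrime (P.comap (algebraMap A B))) := by
  let p := P.comap (algebraMap A B)
  haveI : P.LiesOver p := ⟨rfl⟩
  letI := Localization.AtPrime.algebraOfLiesOver p P
  obtain ⟨h1, h2, -⟩ := atPrime_setup P p
  haveI := h1
  haveI := h2
  exact SerreReg.isRegularLocalRing_of_flat (Localization.AtPrime p) (Localization.AtPrime P)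

/-- `(R_k)` descends. -/
theorem hasRk_descent [Module.FaithfullyFlat A B] (k : ℕ) (hB : LocCoh.HasRk k B) : LocCoh.HasRk k A := by
  intro p hp hpk
  obtain ⟨P, _, rfl, hP⟩ := exists_minimal_over (B := B) p
  refine isRegular_atPrime_descent P (hB P (le_trans ?_ hpk))
  haveI : P.LiesOver (P.comap (algebraMap A B)) := ⟨rfl⟩
  rw [Ideal.height_eq_height_add_of_liesOver_of_hasGoingDown (P.comap (algebraMap A B)) P]
  refine le_of_eq ?_
  conv_rhs => rw [← add_zero (Ideal.height _)]
  congr 1
  refine Ideal.height_eq_zero_iff.2 ?_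
  have h1 := Ideal.minimalPrimes_map_of_surjective
    (f := Ideal.Quotient.mk ((P.comap (algebraMap A B)).map (algebraMap A B))) Ideal.Quotient.mk_surjective ⊥
  rw [Ideal.map_bot, Ideal.mk_ker, bot_sup_eq] at h1
  exact ⟨⟨inferInstance, bot_le⟩, fun Q hQ hle => ((h1.ge (Set.mem_image_of_mem _ hP)).2 hQ hle)⟩

end prime

end Groth.Agent.FlatDepth
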