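import Groth.Agent.FlatDepth.Formal
import Groth.Agent.GeomRedPull.Field
import Groth.Agent.WeakEt.Basic
import Mathlib

/-!
Fibres of composites of flat maps.
-/

set_option autoImplicit false
set_option linter.style.haveILetI false

namespace Groth.Agent.FlatDepth

universe u

open IsLocalRing TensorProduct

/-- Fibre of a base change, over fields. -/
theorem nonempty_fibre_baseChange {B C B' κ κ' : Type u} [CommRing B] [CommRing C] [Algebra B C] [CommRing B']
    [Algebra B B'] [Field κ] [Algebra B κ] [Field κ'] [Algebra B' κ'] [Algebra B κ'] [Algebra κ κ']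
    [IsScalarTower B B' κ'] [IsScalarTower B κ κ'] :
    Nonempty ((κ' ⊗[B'] (B' ⊗[B] C)) ≃+* (κ' ⊗[κ] (κ ⊗[B] C))) :=
  ⟨(Algebra.TensorProduct.cancelBaseChange B B' κ' κ' C).toRingEquiv.trans
    (Algebra.TensorProduct.cancelBaseChange B κ κ' κ' C).symm.toRingEquiv⟩

/-- The change of base field `B ⊗_A K → ·` of `C`. -/
theorem nonempty_double_baseChange (A B C K : Type u) [CommRing A] [CommRing B] [CommRing C] [CommRing K]
    [Algebra A B] [Algebra B C] [Algebra A C] [IsScalarTower A B C] [Algebra A K] :
    Nonempty (((B ⊗[A] K) ⊗[B] C) ≃+* (K ⊗[A] C)) :=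
  ⟨(Algebra.TensorProduct.comm B (B ⊗[A] K) C).toRingEquiv.trans
    ((Algebra.TensorProduct.cancelBaseChange A B C C K).toRingEquiv.trans
      (Algebra.TensorProduct.comm A C K).toRingEquiv)⟩

theorem isNoetherianRing_tensor_essFinite (A C K : Type u) [CommRing A] [CommRing C] [IsNoetherianRing C]
    [CommRing K] [Algebra A C] [Algebra A K] [Algebra.EssFiniteType A K] : IsNoetherianRing (K ⊗[A] C) := by
  haveI : IsNoetherianRing (C ⊗[A] K) := Algebra.EssFiniteType.isNoetherianRing C (C ⊗[A] K)
  exact isNoetherianRing_of_ringEquiv (C ⊗[A] K) (Algebra.TensorProduct.comm A C K).toRingEquiv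

/-- A subfield containing the images of both factors and everything is the whole residue field. -/
theorem eq_top_of_generate {A B K : Type u} [CommRing A] [CommRing B] [CommRing K] [Algebra A B] [Algebra A K]
    (Q : Ideal (B ⊗[A] K)) [Q.IsPrime] {κ : Type u} [Field κ] [Algebra κ Q.ResidueField]
    (L : IntermediateField κ Q.ResidueField) (hB : ∀ b : B, algebraMap (B ⊗[A] K) Q.ResidueField (b ⊗ₜ 1) ∈ L)
    (hK : ∀ x : K, algebraMap (B ⊗[A] K) Q.ResidueField (1 ⊗ₜ x) ∈ L) : L = ⊤ := by
  have h1 : ∀ z : B ⊗[A] K, algebraMap (B ⊗[A] K) Q.ResidueField z ∈ L := fun z => by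
    induction z using TensorProduct.induction_on with
    | zero => rw [map_zero]; exact zero_mem _
    | add x y hx hy => rw [map_add]; exact add_mem hx hy
    | tmul b x =>
      rw [show b ⊗ₜ[A] x = (b ⊗ₜ[A] (1 : K)) * ((1 : B) ⊗ₜ[A] x) by
        rw [Algebra.TensorProduct.tmul_mul_tmul, mul_one, one_mul], map_mul]
      exact mul_mem (hB b) (hK x)
  refine IntermediateField.ext fun z => iff_of_true ?_ IntermediateField.mem_top
  obtain ⟨a, b, -, rfl⟩ := IsFractionRing.div_surjective ((B ⊗[A] K) ⧸ Q) z
  obtain ⟨a, rfl⟩ := Ideal.Quotient.mk_surjective a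
  obtain ⟨b, rfl⟩ := Ideal.Quotient.mk_surjective b
  exact div_mem (by simpa using h1 a) (by simpa using h1 b)

section comp

variable {A B C : Type u} [CommRing A] [CommRing B] [CommRing C] [Algebra A B] [Algebra B C] [Algebra A C]
  [IsScalarTower A B C] [Module.Flat B C] (p : Ideal A) [p.IsPrime]
  (K : Type u) [Field K] [Algebra p.ResidueField K] [Algebra A K] [IsScalarTower A p.ResidueField K]

omit [IsScalarTower A B C] [Module.Flat B C] in
/-- The residue fields of `B ⊗ K` over those of `B`. -/
theorem residue_setup [Module.Finite p.ResidueField K] (Q : Ideal (B ⊗[A] K)) [Q.IsPrime]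
    (q : Ideal B) [q.IsPrime] [Algebra q.ResidueField Q.ResidueField]
    [IsScalarTower B q.ResidueField Q.ResidueField] :
    Module.Finite q.ResidueField Q.ResidueField := by
  haveI : Algebra.EssFiniteType A K := Algebra.EssFiniteType.comp A p.ResidueField K
  haveI : Algebra.EssFiniteType B Q.ResidueField := Algebra.EssFiniteType.comp B (B ⊗[A] K) Q.ResidueField
  haveI : Algebra.EssFiniteType q.ResidueField Q.ResidueField :=
    Algebra.EssFiniteType.of_comp B q.ResidueField Q.ResidueField
  haveI : Algebra.IsAlgebraic q.ResidueField Q.ResidueField := by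
    let L := algebraicClosure q.ResidueField Q.ResidueField
    have hB : ∀ b : B, algebraMap (B ⊗[A] K) Q.ResidueField (b ⊗ₜ 1) ∈ L := fun b => by
      rw [show (b ⊗ₜ[A] (1 : K)) = algebraMap B (B ⊗[A] K) b from rfl, ← IsScalarTower.algebraMap_apply,
        IsScalarTower.algebraMap_apply B q.ResidueField Q.ResidueField]
      exact L.algebraMap_mem _
    have hK : ∀ x : K, algebraMap (B ⊗[A] K) Q.ResidueField (1 ⊗ₜ x) ∈ L := fun x => by
      obtain ⟨f, hf0, hf⟩ := Algebra.IsAlgebraic.isAlgebraic (R := p.ResidueField) x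
      let ι : K →+* Q.ResidueField :=
        (algebraMap (B ⊗[A] K) Q.ResidueField).comp (Algebra.TensorProduct.includeRight : K →ₐ[A] B ⊗[A] K).toRingHom
      let φ : p.ResidueField →+* Q.ResidueField := ι.comp (algebraMap p.ResidueField K)
      have hφ : ∀ c : p.ResidueField, φ c ∈ L := fun c => by
        obtain ⟨a, b, -, rfl⟩ := IsFractionRing.div_surjective (A ⧸ p) c
        obtain ⟨a, rfl⟩ := Ideal.Quotient.mk_surjective a
        obtain ⟨b, rfl⟩ := Ideal.Quotient.mk_surjective b
        have h1 : ∀ r : A, φ (algebraMap (A ⧸ p) p.ResidueField (Ideal.Quotient.mk p r)) ∈ L := fun r => by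
          have h2 : φ (algebraMap (A ⧸ p) p.ResidueField (Ideal.Quotient.mk p r)) =
              algebraMap (B ⊗[A] K) Q.ResidueField (algebraMap A B r ⊗ₜ 1) := by
            show algebraMap (B ⊗[A] K) Q.ResidueField (1 ⊗ₜ[A] _) = _
            congr 1
            rw [Ideal.algebraMap_quotient_residueField_mk, ← IsScalarTower.algebraMap_apply,
              Algebra.algebraMap_eq_smul_one r, Algebra.algebraMap_eq_smul_one r, TensorProduct.smul_tmul]
          rw [h2]
          exact hB _
        rw [map_div₀]
        exact div_mem (h1 a) (h1 b)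
      let φL : p.ResidueField →+* L := φ.codRestrict L hφ
      have hint : IsIntegral L (ι x) := by
        refine (IsAlgebraic.isIntegral ⟨f.map φL, fun h => hf0 ((Polynomial.map_eq_zero_iff φL.injective).1 h), ?_⟩)
        rw [Polynomial.aeval_def, Polynomial.eval₂_map]
        have h3 := congrArg ι hf
        rw [map_zero, Polynomial.aeval_def, Polynomial.hom_eval₂] at h3
        exact h3
      haveI : Algebra.IsAlgebraic q.ResidueField L := algebraicClosure.isAlgebraic _ _
      exact mem_algebraicClosure_iff'.2 (isIntegral_trans (R := q.ResidueField) (A := L) _ hint)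
    have htop := eq_top_of_generate Q L hB hK
    exact ⟨fun z => mem_algebraicClosure_iff.1 (htop.ge IntermediateField.mem_top)⟩
  exact Algebra.finite_of_essFiniteType_of_isAlgebraic

/-- Ascent through a composite, for an arbitrary property proved by ascent along flat maps. -/
theorem comp_ascent' [Module.Finite p.ResidueField K] [IsNoetherianRing (K ⊗[A] B)] [IsNoetherianRing (K ⊗[A] C)]
    (P : ∀ (R : Type u) [CommRing R], Prop)
    (hequiv : ∀ (R R' : Type u) [CommRing R] [CommRing R'], (R ≃+* R') → P R → P R')
    (hascent : ∀ (R S : Type u) [CommRing R] [CommRing S] [Algebra R S] [IsNoetherianRing R] [IsNoetherianRing S]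
      [Module.Flat R S], P R → (∀ (Q : Ideal R) [Q.IsPrime], P (Q.Fiber S)) → P S)
    (hB : P (K ⊗[A] B))
    (hC : ∀ (q : Ideal B) [q.IsPrime] (κ : Type u) [Field κ] [Algebra q.ResidueField κ],
      Module.Finite q.ResidueField κ → P (κ ⊗[q.ResidueField] q.Fiber C)) :
    P (K ⊗[A] C) := by
  obtain ⟨e⟩ := nonempty_double_baseChange A B C K
  haveI : IsNoetherianRing ((B ⊗[A] K) ⊗[B] C) := isNoetherianRing_of_ringEquiv _ e.symm
  haveI : IsNoetherianRing (B ⊗[A] K) :=
    isNoetherianRing_of_ringEquiv (K ⊗[A] B) (Algebra.TensorProduct.comm A K B).toRingEquiv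
  refine hequiv _ _ e (hascent (B ⊗[A] K) ((B ⊗[A] K) ⊗[B] C)
    (hequiv _ _ (Algebra.TensorProduct.comm A K B).toRingEquiv hB) fun Q _ => ?_)
  let q := Q.comap (algebraMap B (B ⊗[A] K))
  let φ := Ideal.ResidueField.map q Q (algebraMap B (B ⊗[A] K)) rfl
  letI : Algebra q.ResidueField Q.ResidueField := φ.toAlgebra
  haveI : IsScalarTower B q.ResidueField Q.ResidueField := IsScalarTower.of_algebraMap_eq fun b => by
    rw [RingHom.algebraMap_toAlgebra, Ideal.ResidueField.map_algebraMap, ← IsScalarTower.algebraMap_apply]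
  haveI := residue_setup (B := B) p K Q q
  obtain ⟨e'⟩ := nonempty_fibre_baseChange (B := B) (C := C) (B' := B ⊗[A] K) (κ := q.ResidueField)
    (κ' := Q.ResidueField)
  exact hequiv _ _ e'.symm (hC q Q.ResidueField inferInstance)

theorem comp_ascent [IsNoetherianRing B] [IsNoetherianRing C] [Module.Finite p.ResidueField K]
    (P : ∀ (R : Type u) [CommRing R], Prop)
    (hequiv : ∀ (R R' : Type u) [CommRing R] [CommRing R'], (R ≃+* R') → P R → P R')
    (hascent : ∀ (R S : Type u) [CommRing R] [CommRing S] [Algebra R S] [IsNoetherianRing R] [IsNoetherianRing S]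
      [Module.Flat R S], P R → (∀ (Q : Ideal R) [Q.IsPrime], P (Q.Fiber S)) → P S)
    (hB : P (K ⊗[A] B))
    (hC : ∀ (q : Ideal B) [q.IsPrime] (κ : Type u) [Field κ] [Algebra q.ResidueField κ],
      Module.Finite q.ResidueField κ → P (κ ⊗[q.ResidueField] q.Fiber C)) :
    P (K ⊗[A] C) := by
  haveI : Algebra.EssFiniteType A K := Algebra.EssFiniteType.comp A p.ResidueField K
  haveI := isNoetherianRing_tensor_essFinite A C K
  haveI := isNoetherianRing_tensor_essFinite A B K
  exact comp_ascent' (A := A) (B := B) (C := C) p K P hequiv hascent hB hC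

end comp

/-- Geometric normality ascends through composites. -/
theorem isNormalHom_comp {A B C : Type u} [CommRing A] [CommRing B] [CommRing C] [IsNoetherianRing B]
    [IsNoetherianRing C] [Algebra A B] [Algebra B C] [Algebra A C] [IsScalarTower A B C]
    (hAB : EGA4.IsNormalHom A B) (hBC : EGA4.IsNormalHom B C) : EGA4.IsNormalHom A C := by
  obtain ⟨_, hAB⟩ := hAB
  obtain ⟨_, hBC⟩ := hBC
  refine ⟨Module.Flat.trans A B C, fun p _ K _ _ hK => ?_⟩
  letI : Algebra A K := ((algebraMap p.ResidueField K).comp (algebraMap A p.ResidueField)).toAlgebra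
  haveI : IsScalarTower A p.ResidueField K := IsScalarTower.of_algebraMap_eq fun _ => rfl
  haveI := hK
  refine isNormalRing_of_equiv (Algebra.TensorProduct.cancelBaseChange A p.ResidueField K K C).symm.toRingEquiv
    (comp_ascent p K (fun R _ => EGA4.IsNormalRing R) (fun _ _ _ _ e h => isNormalRing_of_equiv e h) ?_
      (isNormalRing_of_equiv (Algebra.TensorProduct.cancelBaseChange A p.ResidueField K K B).toRingEquiv
        (hAB p K inferInstance))
      fun q _ κ _ _ hκ => hBC q κ hκ)
  intro R S _ _ _ _ _ _ hR hF q _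
  refine normal_ascent (A := R) (fun P _ => ?_) hR q
  obtain ⟨Q, _, ⟨e⟩⟩ := exists_fibre_equiv (A := R) P
  obtain ⟨_, _⟩ := hF _ Q
  haveI := e.symm.toMulEquiv.isDomain (Localization.AtPrime Q)
  exact ⟨inferInstance, IsIntegrallyClosed.of_equiv (R := Localization.AtPrime Q) e⟩

/-- Geometric reducedness ascends through composites. -/
theorem geomReduced_comp {A B C : Type u} [CommRing A] [CommRing B] [CommRing C] [IsNoetherianRing B]
    [IsNoetherianRing C] [Algebra A B] [Algebra B C] [Algebra A C] [IsScalarTower A B C] [Module.Flat B C]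
    (hAB : ∀ (p : Ideal A) [p.IsPrime], Algebra.IsGeometricallyReduced p.ResidueField (p.Fiber B))
    (hBC : ∀ (q : Ideal B) [q.IsPrime], Algebra.IsGeometricallyReduced q.ResidueField (q.Fiber C))
    (p : Ideal A) [p.IsPrime] : Algebra.IsGeometricallyReduced p.ResidueField (p.Fiber C) := by
  have hfin : ∀ (K : Type u) [Field K] [Algebra p.ResidueField K], Module.Finite p.ResidueField K →
      IsReduced (K ⊗[p.ResidueField] p.Fiber C) := fun K _ _ hK => by
    letI : Algebra A K := ((algebraMap p.ResidueField K).comp (algebraMap A p.ResidueField)).toAlgebra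
    haveI : IsScalarTower A p.ResidueField K := IsScalarTower.of_algebraMap_eq fun _ => rfl
    haveI := hK
    haveI := hAB p
    haveI : IsReduced (K ⊗[A] C) := comp_ascent (A := A) (B := B) (C := C) p K (fun R _ => IsReduced R)
      (fun _ _ _ _ e h => isReduced_of_injective e.symm e.symm.injective)
      (fun R S _ _ _ _ _ _ hR hF => isReduced_of_flat (minimalPrimes.finite_of_isNoetherianRing R) fun Q _ _ => hF Q)
      (isReduced_of_injective (Algebra.TensorProduct.cancelBaseChange A p.ResidueField K K B).symm
        (Algebra.TensorProduct.cancelBaseChange A p.ResidueField K K B).symm.injective)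
      fun q _ κ _ _ _ => haveI := hBC q; GeomRedPull.isReduced_field_tensor κ
    exact isReduced_of_injective (Algebra.TensorProduct.cancelBaseChange A p.ResidueField K K C)
      (Algebra.TensorProduct.cancelBaseChange A p.ResidueField K K C).injective
  rw [Algebra.isGeometricallyReduced_field_iff]
  haveI : IsReduced (p.Fiber C ⊗[p.ResidueField] AlgebraicClosure p.ResidueField) :=
    IsReduced.tensorProduct_of_flat_of_forall_fg fun D hD => by
      haveI : Algebra.FiniteType p.ResidueField D := (Subalgebra.fg_iff_finiteType D).1 hD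
      haveI : Algebra.IsIntegral p.ResidueField D :=
        Algebra.IsIntegral.of_injective D.val Subtype.val_injective
      haveI : Module.Finite p.ResidueField D := Algebra.IsIntegral.finite
      let L : IntermediateField p.ResidueField (AlgebraicClosure p.ResidueField) :=
        D.toIntermediateField' (Subalgebra.isField_of_algebraic D)
      let e : L ≃ₐ[p.ResidueField] D :=
        Subalgebra.equivOfEq _ _ (rfl : L.toSubalgebra = D)
      haveI : Module.Finite p.ResidueField L := Module.Finite.equiv e.symm.toLinearEquiv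
      haveI := hfin L inferInstance
      exact isReduced_of_injective ((Algebra.TensorProduct.congr e.symm AlgEquiv.refl).toRingEquiv.toRingHom.comp
          (Algebra.TensorProduct.comm p.ResidueField (p.Fiber C) D).toRingEquiv.toRingHom)
        ((Algebra.TensorProduct.congr e.symm AlgEquiv.refl).injective.comp
          (Algebra.TensorProduct.comm p.ResidueField (p.Fiber C) D).injective)
  exact isReduced_of_injective (Algebra.TensorProduct.comm p.ResidueField _ _)
    (Algebra.TensorProduct.comm p.ResidueField _ _).injective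

end Groth.Agent.FlatDepth
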