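import Groth.Agent.FlatDepth.Comp
import Mathlib

/-!
Serre conditions of fibres of composites, and descent along faithfully flat second maps.
-/

set_option autoImplicit false
set_option linter.style.haveILetI false

namespace Groth.Agent.FlatDepth

universe u

open IsLocalRing TensorProduct

theorem hasSk_of_equiv {R R' : Type u} [CommRing R] [CommRing R'] [IsNoetherianRing R] (k : ℕ) (e : R ≃+* R')
    (h : LocCoh.HasSk k R R) : LocCoh.HasSk k R' R' := by
  haveI : IsNoetherianRing R' := isNoetherianRing_of_ringEquiv R e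
  rw [hasSk_iff_condS] at h ⊢
  intro p hp
  let e' : Localization.AtPrime (p.comap e.toRingHom) ≃+* Localization.AtPrime p :=
    IsLocalization.ringEquivOfRingEquiv (M := (p.comap e.toRingHom).primeCompl) (T := p.primeCompl)
      (Localization.AtPrime (p.comap e.toRingHom)) (Localization.AtPrime p) e (by
        ext x
        simp only [Submonoid.mem_map, Ideal.mem_primeCompl_iff, Ideal.mem_comap]
        exact ⟨by rintro ⟨y, hy, rfl⟩; exact hy, fun hx => ⟨e.symm x, by simpa using hx, e.apply_symm_apply x⟩⟩)
  haveI : IsNoetherianRing (Localization.AtPrime (p.comap e.toRingHom)) :=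
    IsLocalization.isNoetherianRing (p.comap e.toRingHom).primeCompl _ inferInstance
  haveI : IsNoetherianRing (Localization.AtPrime p) := IsLocalization.isNoetherianRing p.primeCompl _ inferInstance
  exact (h (p.comap e.toRingHom)).of_ringEquiv e'

/-- Artinian rings satisfy every `(S_k)`. -/
theorem hasSk_of_dim_zero (k : ℕ) (R : Type u) [CommRing R] [Ring.KrullDimLE 0 R] : LocCoh.HasSk k R R := by
  rw [hasSk_iff_condS]
  intro p hp
  refine (min_le_right _ _).trans (le_trans (le_of_eq ?_) (WithBot.coe_le_coe.2 (zero_le (α := ℕ∞) (a := _))))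
  rw [IsLocalization.AtPrime.ringKrullDim_eq_height p (Localization.AtPrime p)]
  exact congrArg _ (Ideal.height_eq_zero_iff.2 (Ideal.mem_minimalPrimes_of_krullDimLE_zero p))

/-- Base change along a finite field extension preserves `(S_k)`. -/
theorem hasSk_finite_field_tensor (n : ℕ) (k L R : Type u) [Field k] [Field L] [Algebra k L] [Module.Finite k L]
    [CommRing R] [IsNoetherianRing R] [Algebra k R] (h : LocCoh.HasSk n R R) :
    LocCoh.HasSk n (L ⊗[k] R) (L ⊗[k] R) := by
  haveI : IsNoetherianRing (R ⊗[k] L) := IsNoetherianRing.of_finite R (R ⊗[k] L)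
  refine hasSk_of_equiv n (Algebra.TensorProduct.comm k R L).toRingEquiv
    (hasSk_of_flat_fibres n h fun P _ => ?_)
  haveI : Module.Finite P.ResidueField (P.Fiber (R ⊗[k] L)) := Module.Finite.base_change R P.ResidueField (R ⊗[k] L)
  haveI : IsArtinianRing (P.Fiber (R ⊗[k] L)) := IsArtinianRing.of_finite P.ResidueField _
  exact hasSk_of_dim_zero n _

theorem snFibres_comp (n : ℕ) {A B C : Type u} [CommRing A] [CommRing B] [CommRing C] [IsNoetherianRing B]
    [IsNoetherianRing C] [Algebra A B] [Algebra B C] [Algebra A C] [IsScalarTower A B C] [Module.Flat B C]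
    (hAB : ∀ (p : Ideal A) [p.IsPrime], LocCoh.HasSk n (p.Fiber B) (p.Fiber B))
    (hBC : ∀ (q : Ideal B) [q.IsPrime], LocCoh.HasSk n (q.Fiber C) (q.Fiber C))
    (p : Ideal A) [p.IsPrime] : LocCoh.HasSk n (p.Fiber C) (p.Fiber C) := by
  refine (comp_ascent (A := A) (B := B) (C := C) p p.ResidueField
    (fun R _ => IsNoetherianRing R ∧ LocCoh.HasSk n R R)
    (fun R R' _ _ e h => haveI := h.1; ⟨isNoetherianRing_of_ringEquiv R e, hasSk_of_equiv n e h.2⟩)
    (fun R S _ _ _ _ _ _ hR hF => ⟨inferInstance, hasSk_of_flat_fibres n hR.2 fun Q _ => (hF Q).2⟩)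
    ⟨isNoetherianRing_tensor_essFinite A B p.ResidueField, hAB p⟩ fun q _ κ _ _ _ => ?_).2
  haveI : IsNoetherianRing (q.Fiber C) := isNoetherianRing_tensor_essFinite B C q.ResidueField
  haveI : Algebra.EssFiniteType q.ResidueField κ := inferInstance
  exact ⟨isNoetherianRing_tensor_essFinite q.ResidueField (q.Fiber C) κ,
    hasSk_finite_field_tensor n q.ResidueField κ (q.Fiber C) (hBC q)⟩

theorem isNoetherianRing_descent (R S : Type u) [CommRing R] [CommRing S] [Algebra R S] [IsNoetherianRing S]
    [Module.FaithfullyFlat R S] : IsNoetherianRing R := by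
  have hinj : Function.Injective (Ideal.map (algebraMap R S)) := fun I J h => by
    rw [← Ideal.comap_map_eq_self_of_faithfullyFlat (B := S) I, h, Ideal.comap_map_eq_self_of_faithfullyFlat]
  have hmono : Monotone (Ideal.map (algebraMap R S)) := fun _ _ h => Ideal.map_mono h
  haveI : WellFoundedGT (Ideal R) := (hmono.strictMono_of_injective hinj).wellFoundedGT
  exact isNoetherianRing_iff.mpr (isNoetherian_iff'.mpr inferInstance)

/-- Descent along a faithfully flat second map, Noetherian only after the base change. -/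
theorem comp_descent' {A B C : Type u} [CommRing A] [CommRing B] [CommRing C] [Algebra A B] [Algebra B C]
    [Algebra A C] [IsScalarTower A B C] [Module.FaithfullyFlat B C]
    (K : Type u) [CommRing K] [Algebra A K] [IsNoetherianRing (K ⊗[A] C)]
    (P : ∀ (R : Type u) [CommRing R], Prop)
    (hequiv : ∀ (R R' : Type u) [CommRing R] [CommRing R'], (R ≃+* R') → P R → P R')
    (hdescent : ∀ (R S : Type u) [CommRing R] [CommRing S] [Algebra R S] [IsNoetherianRing R] [IsNoetherianRing S]
      [Module.FaithfullyFlat R S], P S → P R)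
    (hC : P (K ⊗[A] C)) : P (K ⊗[A] B) ∧ IsNoetherianRing (K ⊗[A] B) := by
  obtain ⟨e⟩ := nonempty_double_baseChange A B C K
  haveI : IsNoetherianRing ((B ⊗[A] K) ⊗[B] C) := isNoetherianRing_of_ringEquiv _ e.symm
  haveI := isNoetherianRing_descent (B ⊗[A] K) ((B ⊗[A] K) ⊗[B] C)
  exact ⟨hequiv _ _ (Algebra.TensorProduct.comm A B K).toRingEquiv
    (hdescent (B ⊗[A] K) ((B ⊗[A] K) ⊗[B] C) (hequiv _ _ e.symm hC)),
    isNoetherianRing_of_ringEquiv _ (Algebra.TensorProduct.comm A B K).toRingEquiv⟩

/-- Descent of properties of fibres along a faithfully flat second map. -/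
theorem comp_descent {A B C : Type u} [CommRing A] [CommRing B] [CommRing C] [Algebra A B] [Algebra B C]
    [Algebra A C] [IsScalarTower A B C] [IsNoetherianRing B] [IsNoetherianRing C] [Module.FaithfullyFlat B C]
    (K : Type u) [CommRing K] [Algebra A K] [Algebra.EssFiniteType A K]
    (P : ∀ (R : Type u) [CommRing R], Prop)
    (hequiv : ∀ (R R' : Type u) [CommRing R] [CommRing R'], (R ≃+* R') → P R → P R')
    (hdescent : ∀ (R S : Type u) [CommRing R] [CommRing S] [Algebra R S] [IsNoetherianRing R] [IsNoetherianRing S]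
      [Module.FaithfullyFlat R S], P S → P R)
    (hC : P (K ⊗[A] C)) : P (K ⊗[A] B) := by
  obtain ⟨e⟩ := nonempty_double_baseChange A B C K
  haveI := isNoetherianRing_tensor_essFinite A C K
  haveI := isNoetherianRing_tensor_essFinite A B K
  haveI : IsNoetherianRing ((B ⊗[A] K) ⊗[B] C) := isNoetherianRing_of_ringEquiv _ e.symm
  haveI : IsNoetherianRing (B ⊗[A] K) :=
    isNoetherianRing_of_ringEquiv (K ⊗[A] B) (Algebra.TensorProduct.comm A K B).toRingEquiv
  exact hequiv _ _ (Algebra.TensorProduct.comm A B K).toRingEquiv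
    (hdescent (B ⊗[A] K) ((B ⊗[A] K) ⊗[B] C) (hequiv _ _ e.symm hC))

theorem snFibres_descent (n : ℕ) {A B C : Type u} [CommRing A] [CommRing B] [CommRing C] [Algebra A B]
    [Algebra B C] [Algebra A C] [IsScalarTower A B C] [IsNoetherianRing B] [IsNoetherianRing C]
    [Module.FaithfullyFlat B C] (p : Ideal A) [p.IsPrime] (h : LocCoh.HasSk n (p.Fiber C) (p.Fiber C)) :
    LocCoh.HasSk n (p.Fiber B) (p.Fiber B) :=
  (comp_descent (A := A) (B := B) (C := C) p.ResidueField (fun R _ => IsNoetherianRing R ∧ LocCoh.HasSk n R R)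
    (fun R R' _ _ e h => haveI := h.1; ⟨isNoetherianRing_of_ringEquiv R e, hasSk_of_equiv n e h.2⟩)
    (fun R S _ _ _ _ _ _ hS => ⟨inferInstance, hasSk_descent n hS.2⟩)
    ⟨isNoetherianRing_tensor_essFinite A C p.ResidueField, h⟩).2

theorem geomNormal_descent {A B C : Type u} [CommRing A] [CommRing B] [CommRing C] [Algebra A B]
    [Algebra B C] [Algebra A C] [IsScalarTower A B C] [IsNoetherianRing B] [IsNoetherianRing C]
    [Module.FaithfullyFlat B C] (p : Ideal A) [p.IsPrime]
    (h : EGA4.IsGeomNormal p.ResidueField (p.Fiber C)) : EGA4.IsGeomNormal p.ResidueField (p.Fiber B) := by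
  intro K _ _ hK
  letI : Algebra A K := ((algebraMap p.ResidueField K).comp (algebraMap A p.ResidueField)).toAlgebra
  haveI : IsScalarTower A p.ResidueField K := IsScalarTower.of_algebraMap_eq fun _ => rfl
  haveI := hK
  haveI : Algebra.EssFiniteType A K := Algebra.EssFiniteType.comp A p.ResidueField K
  refine isNormalRing_of_equiv (Algebra.TensorProduct.cancelBaseChange A p.ResidueField K K B).symm.toRingEquiv
    (comp_descent (A := A) (B := B) (C := C) K (fun R _ => EGA4.IsNormalRing R)
      (fun _ _ _ _ e h => isNormalRing_of_equiv e h) ?_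
      (isNormalRing_of_equiv (Algebra.TensorProduct.cancelBaseChange A p.ResidueField K K C).toRingEquiv (h K hK)))
  intro R S _ _ _ _ _ _ hS q _
  obtain ⟨P, _, hP, -⟩ := exists_minimal_over (B := S) q
  obtain ⟨_, _⟩ := hS P
  subst hP
  exact normal_atPrime_descent P

theorem geomReduced_descent {A B C : Type u} [CommRing A] [CommRing B] [CommRing C] [Algebra A B]
    [Algebra B C] [Algebra A C] [IsScalarTower A B C] [Module.FaithfullyFlat B C] (p : Ideal A) [p.IsPrime]
    (h : Algebra.IsGeometricallyReduced p.ResidueField (p.Fiber C)) :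
    Algebra.IsGeometricallyReduced p.ResidueField (p.Fiber B) := by
  haveI := h
  let f : p.Fiber B →ₐ[p.ResidueField] p.Fiber C :=
    Algebra.TensorProduct.map (AlgHom.id p.ResidueField p.ResidueField) (IsScalarTower.toAlgHom A B C)
  refine Algebra.IsGeometricallyReduced.of_injective f ?_
  obtain ⟨e⟩ := nonempty_double_baseChange A B C p.ResidueField
  have h1 : Function.Injective (algebraMap (B ⊗[A] p.ResidueField) ((B ⊗[A] p.ResidueField) ⊗[B] C)) :=
    FaithfulSMul.algebraMap_injective _ _
  have h2 : ∀ z : p.Fiber B, f z = Algebra.TensorProduct.comm A C p.ResidueField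
      (Algebra.TensorProduct.cancelBaseChange A B C C p.ResidueField
        (Algebra.TensorProduct.comm B (B ⊗[A] p.ResidueField) C
          (algebraMap (B ⊗[A] p.ResidueField) ((B ⊗[A] p.ResidueField) ⊗[B] C)
            (Algebra.TensorProduct.comm A p.ResidueField B z)))) := fun z => by
    induction z using TensorProduct.induction_on with
    | zero => simp
    | tmul x b =>
      simp [f, Algebra.smul_def]
    | add x y hx hy => simp only [map_add, hx, hy]
  intro x y hxy
  rw [h2, h2] at hxy
  exact (Algebra.TensorProduct.comm A p.ResidueField B).injective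
    (h1 ((Algebra.TensorProduct.comm B (B ⊗[A] p.ResidueField) C).injective
      ((Algebra.TensorProduct.cancelBaseChange A B C C p.ResidueField).injective
        ((Algebra.TensorProduct.comm A C p.ResidueField).injective hxy))))

end Groth.Agent.FlatDepth
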