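import Groth.Agent.Cohen.Completion
import Groth.Agent.FlatDepth.CompDescent
import Groth.Agent.CMFlat.FieldTensor
import Mathlib

/-!
Formal fibres of quotients.
-/

set_option autoImplicit false
set_option linter.style.haveILetI false

namespace Groth.Agent.FlatDepth

universe u

open IsLocalRing

/-- The completion of a quotient, compatibly. -/
theorem exists_cpl_quotient {A B : Type u} [CommRing A] [CommRing B] [IsLocalRing A] [IsLocalRing B]
    [IsNoetherianRing A] [IsNoetherianRing B] (φ : A →+* B) (hφ : Function.Surjective φ) :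
    ∃ ψ : AdicCompletion (maximalIdeal A) A →+* AdicCompletion (maximalIdeal B) B, Function.Surjective ψ ∧
      ψ.comp (algebraMap A (AdicCompletion (maximalIdeal A) A)) = (algebraMap B (AdicCompletion (maximalIdeal B) B)).comp φ ∧
      RingHom.ker ψ = (RingHom.ker φ).map (algebraMap A (AdicCompletion (maximalIdeal A) A)) := by
  haveI : IsLocalHom φ := IsLocalHom.of_surjective φ hφ
  let A' := AdicCompletion (maximalIdeal A) A
  let B' := AdicCompletion (maximalIdeal B) B
  have hmap : (maximalIdeal A).map φ ≤ maximalIdeal B := Ideal.map_le_iff_le_comap.mpr fun a ha hu => ha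
    (isUnit_of_map_unit φ a hu)
  have hle : ∀ n, maximalIdeal A ^ n ≤ (maximalIdeal B' ^ n).comap ((algebraMap B B').comp φ) := fun n => by
    rw [← Ideal.map_le_iff_le_comap, ← Ideal.map_map, AdicCompletion.maximalIdeal_eq_map, ← Ideal.map_pow]
    refine Ideal.map_mono ?_
    rw [Ideal.map_pow]
    exact Ideal.pow_right_mono hmap n
  let f : ∀ n, A' →+* B' ⧸ maximalIdeal B' ^ n := fun n =>
    (Ideal.quotientMap _ _ (hle n)).comp (AdicCompletion.evalₐ (maximalIdeal A) n).toRingHom
  have hf : ∀ n x, ∀ a : A, x - algebraMap A A' a ∈ maximalIdeal A' ^ n → f n x = Ideal.Quotient.mk _ (algebraMap B B' (φ a)) := by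
    intro n x a hxa
    have : f n (x - algebraMap A A' a) = 0 := by
      have h1 : maximalIdeal A' ^ n ≤ RingHom.ker (f n) := by
        rw [AdicCompletion.maximalIdeal_eq_map, ← Ideal.map_pow, Ideal.map_le_iff_le_comap]
        intro r hr
        show (Ideal.quotientMap _ _ (hle n)) (AdicCompletion.evalₐ (maximalIdeal A) n (algebraMap A A' r)) = 0
        rw [AlgHom.commutes]
        show (Ideal.quotientMap _ _ (hle n)) (Ideal.Quotient.mk _ r) = 0
        rw [Ideal.Quotient.eq_zero_iff_mem.mpr hr, map_zero]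
      exact h1 hxa
    rw [map_sub, sub_eq_zero] at this
    rw [this]
    show (Ideal.quotientMap _ _ (hle n)) (AdicCompletion.evalₐ (maximalIdeal A) n (algebraMap A A' a)) = _
    rw [AlgHom.commutes]
    rfl
  have hcompat : ∀ {m n : ℕ} (h : m ≤ n), (Ideal.Quotient.factorPow (maximalIdeal B') h).comp (f n) = f m :=
    fun {m n} h => RingHom.ext fun x => by
      obtain ⟨a, ha⟩ := Cohen.exists_sub_mem_pow x n
      rw [RingHom.comp_apply, hf n x a ha, hf m x a (Ideal.pow_le_pow_right h ha)]
      exact Ideal.Quotient.factor_mk _ _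
  let ψ := IsAdicComplete.liftRingHom (maximalIdeal B') f hcompat
  have hψ : ψ.comp (algebraMap A A') = (algebraMap B B').comp φ := RingHom.ext fun a => by
    refine sub_eq_zero.mp (IsHausdorff.haus' (I := maximalIdeal B') _ fun n => ?_)
    rw [SModEq.sub_mem, sub_zero, smul_eq_mul, Ideal.mul_top, ← Ideal.Quotient.eq, RingHom.comp_apply,
      IsAdicComplete.mk_liftRingHom, hf n _ a (by simp)]
    rfl
  have hcot : maximalIdeal B ≤ Ideal.map φ (maximalIdeal A) ⊔ maximalIdeal B ^ 2 := le_sup_of_le_left fun b hb => by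
    obtain ⟨a, rfl⟩ := hφ b
    exact Ideal.mem_map_of_mem _ fun hu => hb (hu.map φ)
  have hk : Function.Surjective (ResidueField.map φ) := fun z => by
    obtain ⟨b, rfl⟩ := residue_surjective z
    obtain ⟨a, rfl⟩ := hφ b
    exact ⟨residue A a, ResidueField.map_residue φ a⟩
  have hsurj := AdicBasics.surjective_of_cotangent φ ψ hψ hk hcot
  have hker : RingHom.ker ψ = (RingHom.ker φ).map (algebraMap A A') := by
    refine le_antisymm (fun x hx => ?_) (Ideal.map_le_iff_le_comap.mpr fun a ha => ?_)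
    · let N := A' ⧸ (RingHom.ker φ).map (algebraMap A A')
      have h0 : Ideal.Quotient.mk ((RingHom.ker φ).map (algebraMap A A')) x ∈
          (⨅ i : ℕ, maximalIdeal A' ^ i • ⊤ : Submodule A' N) := by
        rw [Submodule.mem_iInf]
        intro n
        obtain ⟨a, ha⟩ := Cohen.exists_sub_mem_pow x n
        have h1 : algebraMap B B' (φ a) ∈ maximalIdeal B' ^ n := by
          rw [← Ideal.Quotient.eq_zero_iff_mem, ← hf n x a ha, ← IsAdicComplete.mk_liftRingHom (maximalIdeal B') f hcompat,
            show ψ x = 0 from hx, map_zero]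
        have h2 : φ a ∈ (maximalIdeal A ^ n).map φ := by
          rw [Ideal.map_pow, show (maximalIdeal A).map φ = maximalIdeal B from le_antisymm hmap fun b hb => by
            obtain ⟨c, rfl⟩ := hφ b
            exact Ideal.mem_map_of_mem _ fun hu => hb (hu.map φ)]
          exact Cohen.eval_mem_pow h1
        obtain ⟨c, hc, hca⟩ := (Ideal.mem_map_iff_of_surjective φ hφ).mp h2
        have h3 : x - algebraMap A A' (a - c) ∈ maximalIdeal A' ^ n := by
          rw [map_sub, ← sub_add]
          refine add_mem ha ?_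
          rw [AdicCompletion.maximalIdeal_eq_map, ← Ideal.map_pow]
          exact Ideal.mem_map_of_mem _ hc
        have h4 : Ideal.Quotient.mk ((RingHom.ker φ).map (algebraMap A A')) x =
            (x - algebraMap A A' (a - c)) • (1 : N) := by
          rw [Algebra.smul_def, mul_one, Ideal.Quotient.algebraMap_eq, Ideal.Quotient.eq, sub_sub_cancel]
          exact Ideal.mem_map_of_mem _ (by rw [RingHom.mem_ker, map_sub, hca, sub_self])
        rw [h4]
        exact Submodule.smul_mem_smul h3 trivial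
      rw [Ideal.iInf_pow_smul_eq_bot_of_isLocalRing (M := N) (maximalIdeal A') (maximalIdeal.isMaximal A').ne_top] at h0
      exact Ideal.Quotient.eq_zero_iff_mem.mp h0
    · show ψ (algebraMap A A' a) = 0
      rw [← RingHom.comp_apply, hψ, RingHom.comp_apply, RingHom.mem_ker.mp ha, map_zero]
  exact ⟨ψ, hsurj, hψ, hker⟩

open TensorProduct

/-- The formal fibres of a quotient after any base change. -/
theorem tensor_quot_equiv (A : Type u) [CommRing A] [IsNoetherianRing A] [IsLocalRing A] (I : Ideal A)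
    [IsLocalRing (A ⧸ I)] (K : Type u) [CommRing K] [Algebra (A ⧸ I) K] [Algebra A K] [IsScalarTower A (A ⧸ I) K] :
    Nonempty ((K ⊗[A ⧸ I] EGA4.Cpl (A ⧸ I)) ≃+* (K ⊗[A] EGA4.Cpl A)) := by
  obtain ⟨ψ, hsurj, hψ, hker⟩ := exists_cpl_quotient (Ideal.Quotient.mk I) Ideal.Quotient.mk_surjective
  let e₀ : (EGA4.Cpl A ⧸ I.map (algebraMap A (EGA4.Cpl A))) ≃+* EGA4.Cpl (A ⧸ I) :=
    (Ideal.quotEquivOfEq (by rw [hker, Ideal.mk_ker])).trans (RingHom.quotientKerEquivOfSurjective hsurj)
  let e₁ : ((A ⧸ I) ⊗[A] EGA4.Cpl A) ≃+* EGA4.Cpl (A ⧸ I) :=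
    ((Algebra.TensorProduct.comm A (A ⧸ I) (EGA4.Cpl A)).toRingEquiv.trans
      (Algebra.TensorProduct.quotIdealMapEquivTensorQuot (EGA4.Cpl A) I).toRingEquiv.symm).trans e₀
  let e₂ : ((A ⧸ I) ⊗[A] EGA4.Cpl A) ≃ₐ[A ⧸ I] EGA4.Cpl (A ⧸ I) := AlgEquiv.ofRingEquiv (f := e₁) fun x => by
    obtain ⟨a, rfl⟩ := Ideal.Quotient.mk_surjective x
    rw [Algebra.TensorProduct.algebraMap_apply]
    have h1 : (Ideal.Quotient.mk I a : A ⧸ I) ⊗ₜ[A] (1 : EGA4.Cpl A) =
        (1 : A ⧸ I) ⊗ₜ[A] algebraMap A (EGA4.Cpl A) a := by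
      rw [← Ideal.Quotient.algebraMap_eq, Algebra.algebraMap_eq_smul_one a, Algebra.algebraMap_eq_smul_one a,
        TensorProduct.smul_tmul]
    show e₁ (Ideal.Quotient.mk I a ⊗ₜ[A] (1 : EGA4.Cpl A)) = _
    rw [h1]
    show e₀ ((Algebra.TensorProduct.quotIdealMapEquivTensorQuot (EGA4.Cpl A) I).symm
      (algebraMap A (EGA4.Cpl A) a ⊗ₜ[A] (1 : A ⧸ I))) = _
    rw [show ((algebraMap A (EGA4.Cpl A) a) ⊗ₜ[A] (1 : A ⧸ I)) =
      Algebra.TensorProduct.quotIdealMapEquivTensorQuot (EGA4.Cpl A) I
        (Ideal.Quotient.mk _ (algebraMap A (EGA4.Cpl A) a)) from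
      (Algebra.TensorProduct.quotIdealMapEquivTensorQuot_mk _ _ _).symm, AlgEquiv.symm_apply_apply]
    show ψ (algebraMap A (EGA4.Cpl A) a) = _
    exact RingHom.congr_fun hψ a
  exact ⟨((Algebra.TensorProduct.congr (AlgEquiv.refl (R := A ⧸ I) (A₁ := K)) e₂).symm.toRingEquiv).trans
    (Algebra.TensorProduct.cancelBaseChange A (A ⧸ I) K K (EGA4.Cpl A)).toRingEquiv⟩

/-- Everything about a formal fibre of a quotient. -/
theorem formalFibre_quot (A : Type u) [CommRing A] [IsNoetherianRing A] [IsLocalRing A] (I : Ideal A)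
    [IsLocalRing (A ⧸ I)] (q : Ideal (A ⧸ I)) [q.IsPrime] :
    ∃ (_ : Algebra (q.comap (Ideal.Quotient.mk I)).ResidueField q.ResidueField),
      Function.Bijective (algebraMap (q.comap (Ideal.Quotient.mk I)).ResidueField q.ResidueField) ∧
      ∀ (K : Type u) [CommRing K] [Algebra q.ResidueField K] [Algebra (q.comap (Ideal.Quotient.mk I)).ResidueField K]
        [IsScalarTower (q.comap (Ideal.Quotient.mk I)).ResidueField q.ResidueField K],
          (Module.Finite q.ResidueField K → Module.Finite (q.comap (Ideal.Quotient.mk I)).ResidueField K) ∧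
          Nonempty ((K ⊗[q.ResidueField] EGA4.formalFibre (A ⧸ I) q) ≃+*
            (K ⊗[(q.comap (Ideal.Quotient.mk I)).ResidueField] EGA4.formalFibre A (q.comap (Ideal.Quotient.mk I)))) := by
  let p := q.comap (Ideal.Quotient.mk I)
  let φ := Ideal.ResidueField.map p q (Ideal.Quotient.mk I) rfl
  have hbij : Function.Bijective φ :=
    (RingHom.surjectiveOnStalks_of_surjective Ideal.Quotient.mk_surjective).residueFieldMap_bijective p q rfl
  refine ⟨φ.toAlgebra, hbij, ?_⟩
  letI := φ.toAlgebra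
  intro K _ _ _ _
  refine ⟨fun h => ?_, ?_⟩
  · haveI : Module.Finite p.ResidueField q.ResidueField :=
      Module.Finite.of_surjective (Algebra.linearMap p.ResidueField q.ResidueField) hbij.2
    exact Module.Finite.trans q.ResidueField K
  letI : Algebra (A ⧸ I) K := ((algebraMap q.ResidueField K).comp (algebraMap (A ⧸ I) q.ResidueField)).toAlgebra
  haveI : IsScalarTower (A ⧸ I) q.ResidueField K := IsScalarTower.of_algebraMap_eq fun _ => rfl
  letI : Algebra A K := ((algebraMap (A ⧸ I) K).comp (Ideal.Quotient.mk I)).toAlgebra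
  haveI : IsScalarTower A (A ⧸ I) K := IsScalarTower.of_algebraMap_eq fun _ => rfl
  haveI : IsScalarTower A p.ResidueField K := IsScalarTower.of_algebraMap_eq fun a => by
    rw [IsScalarTower.algebraMap_apply p.ResidueField q.ResidueField K]
    show algebraMap q.ResidueField K (algebraMap (A ⧸ I) q.ResidueField (Ideal.Quotient.mk I a)) =
      algebraMap q.ResidueField K (φ (algebraMap A p.ResidueField a))
    rw [Ideal.ResidueField.map_algebraMap]
  obtain ⟨e⟩ := tensor_quot_equiv A I K
  exact ⟨(Algebra.TensorProduct.cancelBaseChange (A ⧸ I) q.ResidueField K K (EGA4.Cpl (A ⧸ I))).toRingEquiv.trans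
    (e.trans (Algebra.TensorProduct.cancelBaseChange A p.ResidueField K K (EGA4.Cpl A)).symm.toRingEquiv)⟩

theorem geomNormal_quot (A : Type u) [CommRing A] [IsNoetherianRing A] [IsLocalRing A]
    (hA : EGA4.HasGeomNormalFormalFibres A) (I : Ideal A) [IsLocalRing (A ⧸ I)] :
    EGA4.HasGeomNormalFormalFibres (A ⧸ I) := fun q _ K _ _ hK => by
  obtain ⟨_, -, h⟩ := formalFibre_quot A I q
  letI := ((algebraMap q.ResidueField K).comp (algebraMap (q.comap (Ideal.Quotient.mk I)).ResidueField q.ResidueField)).toAlgebra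
  haveI : IsScalarTower (q.comap (Ideal.Quotient.mk I)).ResidueField q.ResidueField K :=
    IsScalarTower.of_algebraMap_eq fun _ => rfl
  obtain ⟨hfin, ⟨e⟩⟩ := h K
  exact isNormalRing_of_equiv e.symm (hA _ K (hfin hK))

theorem isReduced_tensor_quot (A : Type u) [CommRing A] [IsNoetherianRing A] [IsLocalRing A]
    (hA : EGA4.HasGeomReducedFormalFibres A) (I : Ideal A) [IsLocalRing (A ⧸ I)] (q : Ideal (A ⧸ I)) [q.IsPrime]
    (K : Type u) [Field K] [Algebra q.ResidueField K] :
    IsReduced (K ⊗[q.ResidueField] EGA4.formalFibre (A ⧸ I) q) := by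
  obtain ⟨_, -, h⟩ := formalFibre_quot A I q
  letI := ((algebraMap q.ResidueField K).comp (algebraMap (q.comap (Ideal.Quotient.mk I)).ResidueField q.ResidueField)).toAlgebra
  haveI : IsScalarTower (q.comap (Ideal.Quotient.mk I)).ResidueField q.ResidueField K :=
    IsScalarTower.of_algebraMap_eq fun _ => rfl
  obtain ⟨-, ⟨e⟩⟩ := h K
  haveI := hA (q.comap (Ideal.Quotient.mk I))
  haveI := GeomRedPull.isReduced_field_tensor (k := (q.comap (Ideal.Quotient.mk I)).ResidueField)
    (A := EGA4.formalFibre A (q.comap (Ideal.Quotient.mk I))) K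
  exact isReduced_of_injective e e.injective

theorem geomReduced_quot (A : Type u) [CommRing A] [IsNoetherianRing A] [IsLocalRing A]
    (hA : EGA4.HasGeomReducedFormalFibres A) (I : Ideal A) [IsLocalRing (A ⧸ I)] :
    EGA4.HasGeomReducedFormalFibres (A ⧸ I) := fun q _ =>
  (Algebra.isGeometricallyReduced_field_iff _ _).2 (isReduced_tensor_quot A hA I q _)

theorem cm_quot (A : Type u) [CommRing A] [IsNoetherianRing A] [IsLocalRing A]
    (hA : EGA4.HasCMFormalFibres A) (I : Ideal A) [IsLocalRing (A ⧸ I)] :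
    EGA4.HasCMFormalFibres (A ⧸ I) := fun q _ => by
  obtain ⟨_, hbij, h⟩ := formalFibre_quot A I q
  obtain ⟨hfin, ⟨e⟩⟩ := h q.ResidueField
  haveI := hA (q.comap (Ideal.Quotient.mk I))
  let F := EGA4.formalFibre A (q.comap (Ideal.Quotient.mk I))
  haveI : IsNoetherianRing (EGA4.formalFibre (A ⧸ I) q) := by
    haveI : IsNoetherianRing (EGA4.Cpl (A ⧸ I)) := AdicBasics.isNoetherianRing_completion (A ⧸ I)
    exact isNoetherianRing_tensor_essFinite (A ⧸ I) (EGA4.Cpl (A ⧸ I)) q.ResidueField
  have hb : Function.Bijective (Algebra.TensorProduct.includeRight :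
      F →ₐ[(q.comap (Ideal.Quotient.mk I)).ResidueField] q.ResidueField ⊗[_] F) :=
    ⟨Algebra.TensorProduct.includeRight_injective hbij.1, Algebra.TensorProduct.includeRight_surjective _ hbij.2⟩
  let e' : F ≃+* EGA4.formalFibre (A ⧸ I) q :=
    ((RingEquiv.ofBijective _ hb).trans e.symm).trans (Algebra.TensorProduct.lid q.ResidueField _).toRingEquiv
  exact ⟨fun P _ => CMFlat.isCohenMacaulay_localization_of_ringEquiv e'
    (fun P' _ => LocCoh.IsCohenMacaulayRing.isCohenMacaulayLocalRing_localization P') P⟩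

end Groth.Agent.FlatDepth
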