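import Groth.Agent.LocH.Depth
import Groth.Agent.CMSop.Depth
import Groth.Agent.InjFibre.RegSeq
import Groth.Agent.CMFlat.Local
import Groth.Agent.QGorD.FourTerm
import Groth.Prelude.Def_CAlg
import Mathlib

/-!
Depth of `N ⊗ M` along a flat local homomorphism.
-/

set_option autoImplicit false

namespace Groth.Agent.FlatDepth

universe u v

open IsLocalRing RingTheory.Sequence TensorProduct
open scoped Pointwise

/-- A weakly regular sequence of length `n` in the maximal ideal with a socle element in the quotient. -/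
def SocSeq (R : Type u) [CommRing R] [IsLocalRing R] (M : Type v) [AddCommGroup M] [Module R M] (n : ℕ) : Prop :=
  ∃ rs : List R, rs.length = n ∧ IsWeaklyRegular M rs ∧ (∀ r ∈ rs, r ∈ maximalIdeal R) ∧
    ∃ x : M ⧸ (Ideal.ofList rs • ⊤ : Submodule R M), x ≠ 0 ∧ ∀ a ∈ maximalIdeal R, a • x = 0

variable {R : Type u} [CommRing R] [IsLocalRing R] {M : Type v} [AddCommGroup M] [Module R M]

theorem ofList_nil_smul : (Ideal.ofList ([] : List R) • ⊤ : Submodule R M) = ⊥ := by
  rw [Ideal.ofList_nil, Submodule.bot_smul]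

theorem socSeq_zero {x : M} (hx : x ≠ 0) (h : ∀ a ∈ maximalIdeal R, a • x = 0) : SocSeq R M 0 := by
  refine ⟨[], rfl, IsWeaklyRegular.nil _ _, by simp, Submodule.Quotient.mk x, ?_, fun a ha => ?_⟩
  · rw [Ne, Submodule.Quotient.mk_eq_zero, ofList_nil_smul, Submodule.mem_bot]
    exact hx
  · rw [← Submodule.Quotient.mk_smul, h a ha, Submodule.Quotient.mk_zero]

theorem SocSeq.congr {M' : Type*} [AddCommGroup M'] [Module R M'] {n : ℕ} (h : SocSeq R M n) (e : M ≃ₗ[R] M') :
    SocSeq R M' n := by
  obtain ⟨rs, hl, hr, hm, x, hx, hax⟩ := h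
  let e' := Submodule.Quotient.equiv (Ideal.ofList rs • ⊤ : Submodule R M) (Ideal.ofList rs • ⊤ : Submodule R M') e
    (by rw [Submodule.map_smul'', Submodule.map_top, LinearEquiv.range])
  exact ⟨rs, hl, (e.isWeaklyRegular_congr rs).1 hr, hm, e' x, e'.map_ne_zero_iff.2 hx,
    fun a ha => by rw [← map_smul, hax a ha, map_zero]⟩

theorem socSeq_cons {r : R} (hr : r ∈ maximalIdeal R) (hreg : IsSMulRegular M r) {n : ℕ}
    (h : SocSeq R (QuotSMulTop r M) n) : SocSeq R M (n + 1) := by
  obtain ⟨rs, hl, hrs, hm, x, hx, hax⟩ := h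
  let e := Submodule.quotOfListConsSMulTopEquivQuotSMulTopInner M r rs
  exact ⟨r :: rs, by rw [List.length_cons, hl], IsWeaklyRegular.cons hreg hrs, List.forall_mem_cons.2 ⟨hr, hm⟩,
    e.symm x, e.symm.map_ne_zero_iff.2 hx, fun a ha => by rw [← map_smul, hax a ha, map_zero]⟩

theorem socSeq_uncons {n : ℕ} (h : SocSeq R M (n + 1)) :
    ∃ r ∈ maximalIdeal R, IsSMulRegular M r ∧ SocSeq R (QuotSMulTop r M) n := by
  obtain ⟨_ | ⟨r, rs⟩, hl, hrs, hm, x, hx, hax⟩ := h
  · simp at hl
  rw [isWeaklyRegular_cons_iff] at hrs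
  let e := Submodule.quotOfListConsSMulTopEquivQuotSMulTopInner M r rs
  exact ⟨r, hm r (by simp), hrs.1, rs, by simpa using hl, hrs.2, fun a ha => hm a (by simp [ha]), e x,
    e.map_ne_zero_iff.2 hx, fun a ha => by rw [← map_smul, hax a ha, map_zero]⟩

section depth

variable [IsNoetherianRing R]

/-- Socle sequences compute the depth. -/
theorem SocSeq.depth_eq : ∀ {n : ℕ} {M : Type u} [AddCommGroup M] [Module R M] [Module.Finite R M],
    SocSeq R M n → LocCoh.depth R M = n ∧
      ¬ ∀ i, i < n + 1 → Subsingleton (LocCoh.H (maximalIdeal R) i M) := by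
  intro n
  induction n with
  | zero =>
    intro M _ _ _ h
    obtain ⟨_ | ⟨r, rs⟩, hl, -, -, x, hx, hax⟩ := h
    swap
    · simp at hl
    obtain ⟨y, rfl⟩ := Submodule.Quotient.mk_surjective _ x
    have hy : y ≠ 0 := fun h => hx (by rw [h]; rfl)
    have hay : ∀ a ∈ maximalIdeal R, a • y = 0 := fun a ha => by
      have h1 := hax a ha
      rwa [← Submodule.Quotient.mk_smul, Submodule.Quotient.mk_eq_zero, ofList_nil_smul, Submodule.mem_bot] at h1
    have hkey : ¬ ∀ i, i < 0 + 1 → Subsingleton (LocCoh.H (maximalIdeal R) i M) := fun h1 => by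
      have h2 := LocH.torsionSub_eq_bot_of_subsingleton (h1 0 one_pos)
      refine hy ((Submodule.mem_bot R).1 (h2.le ?_))
      exact ⟨1, fun a ha => hay a (by rwa [pow_one] at ha)⟩
    refine ⟨?_, hkey⟩
    refine le_antisymm ?_ bot_le
    refine ENat.forall_natCast_le_iff_le.1 fun k hk => ?_
    rw [Nat.cast_le]
    by_contra hk'
    exact hkey fun i hi => (LocH.le_idealDepth_iff _ M k).1 hk i (by lia)
  | succ n ih =>
    intro M _ _ _ h
    obtain ⟨r, hr, hreg, hq⟩ := socSeq_uncons h
    obtain ⟨hd, hno⟩ := ih hq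
    have hkey : ¬ ∀ i, i < n + 1 + 1 → Subsingleton (LocCoh.H (maximalIdeal R) i M) := fun h1 => hno fun i hi =>
      LocH.subsingleton_X₃ (LocH.smulSES_shortExact hreg) i (h1 i (by lia)) (h1 (i + 1) (by lia))
    refine ⟨le_antisymm ?_ ?_, hkey⟩
    · refine ENat.forall_natCast_le_iff_le.1 fun k hk => ?_
      rw [Nat.cast_le]
      by_contra hk'
      exact hkey fun i hi => (LocH.le_idealDepth_iff _ M k).1 hk i (by lia)
    · obtain ⟨rs, hl, hrs, hm, x, hx, -⟩ := h
      rw [LocCoh.depth, LocCoh.idealDepth]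
      split_ifs with htop
      · exact le_top
      · exact le_iSup₂_of_le rs ⟨hrs, hm⟩ (by rw [hl])

/-- Maximal regular sequences have socle in the quotient. -/
theorem exists_socSeq (M : Type u) [AddCommGroup M] [Module R M] [Module.Finite R M] [Nontrivial M] :
    ∃ n, SocSeq R M n := by
  have hIM : maximalIdeal R • (⊤ : Submodule R M) ≠ ⊤ := fun h =>
    (top_ne_bot : (⊤ : Submodule R M) ≠ ⊥) (Submodule.eq_bot_of_le_smul_of_le_jacobson_bot (maximalIdeal R) _
      Module.Finite.fg_top h.ge (IsLocalRing.jacobson_eq_maximalIdeal ⊥ bot_ne_top).ge)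
  obtain ⟨n, hn⟩ := ENat.ne_top_iff_exists.1 (LocH.idealDepth_ne_top hIM)
  obtain ⟨rs, hl, hrs, hm⟩ := LocH.exists_isWeaklyRegular (maximalIdeal R) n M
    ((LocH.le_idealDepth_iff _ M n).1 hn.le)
  refine ⟨n, rs, hl, hrs, hm, ?_⟩
  by_contra hsoc
  push Not at hsoc
  have hreg : ∀ p ∈ associatedPrimes R (M ⧸ (Ideal.ofList rs • ⊤ : Submodule R M)), ¬ maximalIdeal R ≤ p := by
    intro p hp hle
    obtain ⟨hpr, y, hy⟩ := (isAssociatedPrime_iff_exists_injective_linearMap p _).1 (AssociatedPrimes.mem_iff.1 hp)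
    obtain ⟨a, ha, ha'⟩ := hsoc (y (Ideal.Quotient.mk p 1)) fun h0 =>
      hpr.ne_top ((Ideal.eq_top_iff_one _).2 (Ideal.Quotient.eq_zero_iff_mem.1 (hy (h0.trans (map_zero y).symm))))
    refine ha' ?_
    rw [← map_smul, ← Ideal.Quotient.mk_eq_mk, ← Submodule.Quotient.mk_smul, smul_eq_mul, mul_one,
      (Submodule.Quotient.mk_eq_zero _).2 (hle ha), map_zero]
  obtain ⟨r, hr, hr'⟩ : ∃ r ∈ maximalIdeal R, ∀ p ∈ associatedPrimes R (M ⧸ (Ideal.ofList rs • ⊤ : Submodule R M)),
      r ∉ p := by
    by_contra! hall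
    have hfin := associatedPrimes.finite R (M ⧸ (Ideal.ofList rs • ⊤ : Submodule R M))
    have hsub : (maximalIdeal R : Set R) ⊆ ⋃ p ∈ (hfin.toFinset : Set (Ideal R)), (p : Set R) := fun r hr => by
      obtain ⟨p, hp, hrp⟩ := hall r hr
      exact Set.mem_biUnion (hfin.mem_toFinset.2 hp) hrp
    obtain ⟨p, hp, hle⟩ := (Ideal.subset_union_prime ⊥ ⊥ fun p hp _ _ =>
      (AssociatedPrimes.mem_iff.1 (hfin.mem_toFinset.1 hp)).isPrime).1 hsub
    exact hreg p (hfin.mem_toFinset.1 hp) hle
  have hnew : IsWeaklyRegular M (rs ++ [r]) := by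
    rw [isWeaklyRegular_append_iff]
    exact ⟨hrs, (isWeaklyRegular_singleton_iff _ r).2 (CMSop.isSMulRegular_of_forall hr')⟩
  have h1 : ((n + 1 : ℕ) : ℕ∞) ≤ LocCoh.idealDepth (maximalIdeal R) M := by
    rw [LocCoh.idealDepth, if_neg hIM]
    refine le_iSup₂_of_le (rs ++ [r]) ⟨hnew, fun a ha => ?_⟩ (by simp [hl])
    rcases List.mem_append.1 ha with ha | ha
    · exact hm a ha
    · rw [List.mem_singleton.1 ha]; exact hr
  rw [← hn, Nat.cast_le] at h1
  lia

theorem depth_eq_top (M : Type u) [AddCommGroup M] [Module R M] [Subsingleton M] : LocCoh.depth R M = ⊤ :=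
  if_pos (Subsingleton.elim _ _)

end depth

section tensor

variable {R S : Type u} [CommRing R] [CommRing S] [IsLocalRing R] [IsLocalRing S] [IsNoetherianRing S]
  [Algebra R S] [IsLocalHom (algebraMap R S)]

/-- Quotients of a tensor product by an element of `S`. -/
theorem nonempty_quotSMulTop_equiv {N : Type u} [AddCommGroup N] [Module S N] [Module R N] [IsScalarTower R S N]
    (f : S) (M : Type u) [AddCommGroup M] [Module R M] :
    Nonempty (QuotSMulTop f (N ⊗[R] M) ≃ₗ[S] (QuotSMulTop f N) ⊗[R] M) := by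
  let q₀ : N →ₗ[S] QuotSMulTop f N := Submodule.mkQ (f • (⊤ : Submodule S N))
  let q : N →ₗ[R] QuotSMulTop f N := q₀.restrictScalars R
  have hq : Function.Surjective q := Submodule.mkQ_surjective _
  let π : N ⊗[R] M →ₗ[S] (QuotSMulTop f N) ⊗[R] M := AlgebraTensorModule.rTensor R M q₀
  have hπ : ∀ z, π z = q.rTensor M z := fun z => rfl
  have hsur : Function.Surjective π := fun y => by
    obtain ⟨z, hz⟩ := LinearMap.rTensor_surjective M hq y
    exact ⟨z, (hπ z).trans hz⟩
  have hex : Function.Exact ((LinearMap.lsmul S N f).restrictScalars R) q := fun x => by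
    change Submodule.Quotient.mk x = 0 ↔ _
    rw [Submodule.Quotient.mk_eq_zero, Submodule.mem_smul_pointwise_iff_exists]
    simp [Set.mem_range]
  have hrex := rTensor_exact M hex hq
  have hsmul : ∀ z : N ⊗[R] M, ((LinearMap.lsmul S N f).restrictScalars R).rTensor M z = f • z := fun z => by
    induction z using TensorProduct.induction_on with
    | zero => simp
    | tmul p q => simp [TensorProduct.smul_tmul']
    | add p q hp hq => rw [map_add, hp, hq, smul_add]
  have hker : LinearMap.ker π = f • (⊤ : Submodule S (N ⊗[R] M)) := by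
    ext z
    rw [LinearMap.mem_ker, Submodule.mem_smul_pointwise_iff_exists]
    rw [hπ]
    refine (hrex z).trans ?_
    simp [Set.mem_range, hsmul]
  exact ⟨(Submodule.quotEquivOfEq _ _ hker.symm).trans (π.quotKerEquivOfSurjective hsur)⟩

theorem socSeq_tensor_base (N : Type u) [AddCommGroup N] [Module S N] [Module R N] [IsScalarTower R S N]
    [Module.Flat R N] {x : N} (hx : x ∉ (maximalIdeal R).map (algebraMap R S) • (⊤ : Submodule S N))
    (hax : ∀ s ∈ maximalIdeal S, s • x ∈ (maximalIdeal R).map (algebraMap R S) • (⊤ : Submodule S N)) :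
    ∀ {a : ℕ} {M : Type u} [AddCommGroup M] [Module R M], SocSeq R M a → SocSeq S (N ⊗[R] M) a := by
  intro a
  induction a with
  | zero =>
    intro M _ _ h
    obtain ⟨_ | ⟨r, rs⟩, hl, -, -, q, hq, haq⟩ := h
    swap
    · simp at hl
    obtain ⟨t, rfl⟩ := Submodule.Quotient.mk_surjective _ q
    have ht : t ≠ 0 := fun h => hq (by rw [h]; rfl)
    have hmt : ∀ c ∈ maximalIdeal R, c • t = 0 := fun c hc => by
      have h1 := haq c hc
      rwa [← Submodule.Quotient.mk_smul, Submodule.Quotient.mk_eq_zero, ofList_nil_smul, Submodule.mem_bot] at h1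
    let ι : (R ⧸ maximalIdeal R) →ₗ[R] M := Submodule.liftQ _ (LinearMap.toSpanSingleton R M t) fun c hc => hmt c hc
    have hι : Function.Injective ι := (injective_iff_map_eq_zero _).2 fun c hc => by
      obtain ⟨c, rfl⟩ := Submodule.Quotient.mk_surjective _ c
      rw [Submodule.Quotient.mk_eq_zero]
      by_contra hu
      obtain ⟨u, rfl⟩ := notMem_maximalIdeal.1 hu
      exact ht ((one_smul R t).symm.trans (by rw [← Units.inv_mul u, mul_smul]; exact (congrArg _ hc).trans (smul_zero _)))
    refine socSeq_zero (x := x ⊗ₜ[R] t) (fun h0 => hx ?_) fun s hs => ?_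
    · rw [InjFibre.mem_smul_top_iff]
      have h1 : ι.lTensor N (x ⊗ₜ[R] (1 : R ⧸ maximalIdeal R)) = 0 := by
        rw [LinearMap.lTensor_tmul, ← h0]
        exact congrArg (x ⊗ₜ[R] ·) (one_smul R t)
      have h2 : x ⊗ₜ[R] (Ideal.Quotient.mk (maximalIdeal R) 1) = 0 :=
        Module.Flat.lTensor_preserves_injective_linearMap ι hι (h1.trans (map_zero _).symm)
      have h3 := congrArg (TensorProduct.tensorQuotEquivQuotSMul N (maximalIdeal R)) h2
      rw [map_zero, TensorProduct.tensorQuotEquivQuotSMul_tmul_mk, one_smul, Submodule.Quotient.mk_eq_zero] at h3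
      exact h3
    · rw [TensorProduct.smul_tmul']
      refine Submodule.smul_induction_on ((InjFibre.mem_smul_top_iff _ _).1 (hax s hs))
        (fun c hc w _ => by rw [TensorProduct.smul_tmul, hmt c hc, TensorProduct.tmul_zero])
        (fun w w' hw hw' => by rw [TensorProduct.add_tmul, hw, hw', add_zero])
  | succ a ih =>
    intro M _ _ h
    obtain ⟨r, hr, hreg, hq⟩ := socSeq_uncons h
    refine socSeq_cons (map_nonunit (algebraMap R S) r hr) ?_ ?_
    · intro y z hyz
      have : Function.Injective (LinearMap.lTensor N (LinearMap.lsmul R M r)) :=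
        Module.Flat.lTensor_preserves_injective_linearMap _ hreg
      apply this
      have e : ∀ w : N ⊗[R] M, LinearMap.lTensor N (LinearMap.lsmul R M r) w = algebraMap R S r • w := fun w => by
        induction w using TensorProduct.induction_on with
        | zero => simp
        | tmul p q => simp [TensorProduct.tmul_smul, TensorProduct.smul_tmul']
        | add p q hp hq => rw [map_add, hp, hq, smul_add]
      rw [e, e]; exact hyz
    · let π : N ⊗[R] M →ₗ[S] N ⊗[R] (QuotSMulTop r M) :=
        AlgebraTensorModule.lTensor S N (Submodule.mkQ (r • (⊤ : Submodule R M)))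
      have hsur : Function.Surjective π := LinearMap.lTensor_surjective N (Submodule.mkQ_surjective _)
      have hex : Function.Exact (LinearMap.lsmul R M r) (Submodule.mkQ (r • (⊤ : Submodule R M))) := fun y => by
        rw [Submodule.mkQ_apply, Submodule.Quotient.mk_eq_zero, Submodule.mem_smul_pointwise_iff_exists]
        simp [Set.mem_range]
      have hlex := lTensor_exact N hex (Submodule.mkQ_surjective _)
      have hker : LinearMap.ker π = algebraMap R S r • (⊤ : Submodule S (N ⊗[R] M)) := by
        ext z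
        rw [LinearMap.mem_ker, Submodule.mem_smul_pointwise_iff_exists]
        refine (hlex z).trans ?_
        have e : ∀ w : N ⊗[R] M, LinearMap.lTensor N (LinearMap.lsmul R M r) w = algebraMap R S r • w := fun w => by
          induction w using TensorProduct.induction_on with
          | zero => simp
          | tmul p q => simp [TensorProduct.tmul_smul, TensorProduct.smul_tmul']
          | add p q hp hq => rw [map_add, hp, hq, smul_add]
        simp [Set.mem_range, e]
      exact (ih hq).congr ((Submodule.quotEquivOfEq _ _ hker.symm).trans (π.quotKerEquivOfSurjective hsur)).symm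

theorem socSeq_tensor : ∀ {b : ℕ} {N : Type u} [AddCommGroup N] [Module S N] [Module R N] [IsScalarTower R S N]
    [Module.Finite S N] [Module.Flat R N],
    SocSeq S (N ⧸ (maximalIdeal R).map (algebraMap R S) • (⊤ : Submodule S N)) b →
    ∀ {a : ℕ} {M : Type u} [AddCommGroup M] [Module R M], SocSeq R M a → SocSeq S (N ⊗[R] M) (a + b) := by
  intro b
  induction b with
  | zero =>
    intro N _ _ _ _ _ _ h a M _ _ hM
    obtain ⟨_ | ⟨r, rs⟩, hl, -, -, q, hq, haq⟩ := h
    swap
    · simp at hl
    obtain ⟨q', rfl⟩ := Submodule.Quotient.mk_surjective _ q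
    obtain ⟨x, rfl⟩ := Submodule.Quotient.mk_surjective _ q'
    refine socSeq_tensor_base N (x := x) (fun hx => hq ?_) (fun s hs => ?_) hM
    · rw [(Submodule.Quotient.mk_eq_zero _).2 hx]; rfl
    · have h1 := haq s hs
      rw [← Submodule.Quotient.mk_smul, Submodule.Quotient.mk_eq_zero, ofList_nil_smul, Submodule.mem_bot] at h1
      exact (Submodule.Quotient.mk_eq_zero _).1 h1
  | succ b ih =>
    intro N _ _ _ _ _ _ h a M _ _ hM
    let J := (maximalIdeal R).map (algebraMap R S)
    obtain ⟨f, hf, hreg, hq⟩ := socSeq_uncons h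
    obtain ⟨hw, hfl⟩ := InjFibre.regSeq_noeth (A := R) N [f] ((isWeaklyRegular_singleton_iff _ f).2 hreg)
    have hfN : IsSMulRegular N f := (isWeaklyRegular_singleton_iff _ f).1 hw
    haveI : Module.Flat R (QuotSMulTop f N) := by
      haveI h1 : Module.Flat R (N ⧸ (Ideal.ofList [f] • ⊤ : Submodule S N)) := hfl 1 le_rfl
      exact Module.Flat.of_linearEquiv ((Submodule.quotEquivOfEq (Ideal.ofList [f] • ⊤ : Submodule S N) (f • ⊤) (by
        rw [Ideal.ofList_singleton, Submodule.ideal_span_singleton_smul])).restrictScalars R).symm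
    have e1 : Nonempty (QuotSMulTop f (N ⧸ J • (⊤ : Submodule S N)) ≃ₗ[S]
        (QuotSMulTop f N) ⧸ J • (⊤ : Submodule S (QuotSMulTop f N))) := ⟨(FlatLift.quotSwap N J f).symm⟩
    obtain ⟨e1⟩ := e1
    obtain ⟨e2⟩ := nonempty_quotSMulTop_equiv (R := R) f M (N := N)
    refine socSeq_cons hf ?_ ((ih (hq.congr e1) hM).congr e2.symm)
    have hinj := QGorD.rTensor_injective_of_flat_coker (A := R) (i := LinearMap.lsmul S N f)
      (π := Submodule.mkQ (f • (⊤ : Submodule S N))) hfN (Submodule.mkQ_surjective _) (fun x => by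
        rw [Submodule.mkQ_apply, Submodule.Quotient.mk_eq_zero, Submodule.mem_smul_pointwise_iff_exists]
        simp [Set.mem_range]) M
    intro y z hyz
    apply hinj
    have e : ∀ w : N ⊗[R] M, AlgebraTensorModule.rTensor R M (LinearMap.lsmul S N f) w = f • w := fun w => by
      induction w using TensorProduct.induction_on with
      | zero => simp
      | tmul p q => simp [TensorProduct.smul_tmul']
      | add p q hp hq => rw [map_add, hp, hq, smul_add]
    rw [e, e]; exact hyz

/-- The depth of `N ⊗ M`. -/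
theorem depth_tensor [IsNoetherianRing R] (N M : Type u) [AddCommGroup N] [Module S N] [Module R N]
    [IsScalarTower R S N] [Module.Finite S N] [Module.Flat R N] [AddCommGroup M] [Module R M] [Module.Finite R M] :
    LocCoh.depth S (N ⊗[R] M) = LocCoh.depth R M +
      LocCoh.depth S (N ⧸ (maximalIdeal R).map (algebraMap R S) • (⊤ : Submodule S N)) := by
  by_cases hM : Subsingleton M
  · rw [depth_eq_top (R := R) M, top_add]
    exact depth_eq_top _
  by_cases hF : Subsingleton (N ⧸ (maximalIdeal R).map (algebraMap R S) • (⊤ : Submodule S N))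
  · rw [depth_eq_top (R := S) (N ⧸ _), add_top]
    have hN : Subsingleton N := by
      rw [Submodule.Quotient.subsingleton_iff] at hF
      have h0 : (⊤ : Submodule S N) = ⊥ := Submodule.eq_bot_of_le_smul_of_le_jacobson_bot _ _
        Module.Finite.fg_top hF.ge (CMFlat.map_le.trans (IsLocalRing.jacobson_eq_maximalIdeal ⊥ bot_ne_top).ge)
      exact (Submodule.subsingleton_iff S).1 (subsingleton_of_top_le_bot h0.le)
    exact depth_eq_top _
  haveI := not_subsingleton_iff_nontrivial.1 hM
  haveI := not_subsingleton_iff_nontrivial.1 hF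
  obtain ⟨a, ha⟩ := exists_socSeq (R := R) M
  obtain ⟨b, hb⟩ := exists_socSeq (R := S) (N ⧸ (maximalIdeal R).map (algebraMap R S) • (⊤ : Submodule S N))
  obtain ⟨s, t⟩ := Module.Finite.fg_top (R := S) (M := N)
  obtain ⟨s', t'⟩ := Module.Finite.fg_top (R := R) (M := M)
  haveI : Module.Finite S (N ⊗[R] M) := by
    classical
    refine ⟨⟨(s ×ˢ s').image fun p => p.1 ⊗ₜ[R] p.2, Submodule.eq_top_iff'.2 fun z => ?_⟩⟩
    induction z using TensorProduct.induction_on with
    | zero => exact zero_mem _
    | add p q hp hq => exact add_mem hp hq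
    | tmul p q =>
      have hq : q ∈ Submodule.span R (s' : Set M) := t' ▸ trivial
      have hp : p ∈ Submodule.span S (s : Set N) := t ▸ trivial
      induction hq using Submodule.span_induction with
      | zero => rw [TensorProduct.tmul_zero]; exact zero_mem _
      | add q q' _ _ h h' => rw [TensorProduct.tmul_add]; exact add_mem h h'
      | smul c q _ h => rw [TensorProduct.tmul_smul]; exact Submodule.smul_of_tower_mem _ c h
      | mem q hq' =>
        induction hp using Submodule.span_induction with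
        | zero => rw [TensorProduct.zero_tmul]; exact zero_mem _
        | add p p' _ _ h h' => rw [TensorProduct.add_tmul]; exact add_mem h h'
        | smul c p _ h => rw [← TensorProduct.smul_tmul']; exact Submodule.smul_mem _ c h
        | mem p hp' =>
          exact Submodule.subset_span (Finset.mem_image.2 ⟨(p, q), Finset.mem_product.2 ⟨hp', hq'⟩, rfl⟩)
  rw [ha.depth_eq.1, hb.depth_eq.1, (socSeq_tensor hb ha).depth_eq.1, Nat.cast_add]

end tensor

end Groth.Agent.FlatDepth
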