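import Groth.Agent.FlatDepth.AtPrime
import Groth.Agent.AdicBasics.Dimension
import Mathlib

/-!
Reducedness and normality of completions via formal fibres.
-/

set_option autoImplicit false
set_option linter.style.haveILetI false

namespace Groth.Agent.FlatDepth

universe u

open IsLocalRing TensorProduct

/-- Reducedness ascends along flat maps with reduced fibre rings over minimal primes. -/
theorem isReduced_of_flat {A B : Type u} [CommRing A] [CommRing B] [Algebra A B] [Module.Flat A B]
    [IsReduced A] (hfin : (minimalPrimes A).Finite)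
    (hfib : ∀ (p : Ideal A) [p.IsPrime], p ∈ minimalPrimes A → IsReduced (p.Fiber B)) : IsReduced B := by
  classical
  haveI : Finite (minimalPrimes A) := hfin.to_subtype
  haveI := Fintype.ofFinite (minimalPrimes A)
  haveI hp : ∀ p : minimalPrimes A, p.1.IsPrime := fun p => p.2.1.1
  let φ : A →ₗ[A] (∀ p : minimalPrimes A, p.1.ResidueField) :=
    LinearMap.pi fun p => Algebra.linearMap A p.1.ResidueField
  have hφ : Function.Injective φ := (injective_iff_map_eq_zero _).2 fun x hx => by
    have h1 : x ∈ nilradical A := by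
      rw [nilradical, ← Ideal.sInf_minimalPrimes, Ideal.mem_sInf]
      exact fun {p} hp' => haveI := hp ⟨p, hp'⟩; Ideal.algebraMap_residueField_eq_zero.1 (congrFun hx ⟨p, hp'⟩)
    rwa [nilradical_eq_zero, Ideal.zero_eq_bot, Ideal.mem_bot] at h1
  have hinj := Module.Flat.lTensor_preserves_injective_linearMap (M := B) φ hφ
  refine ⟨fun b hb => ?_⟩
  have h2 : TensorProduct.piRight A A B (fun p : minimalPrimes A => p.1.ResidueField) (φ.lTensor B (b ⊗ₜ[A] 1)) = 0 := by
    funext p
    rw [LinearMap.lTensor_tmul, TensorProduct.piRight_apply, TensorProduct.piRightHom_tmul]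
    haveI := hfib p.1 p.2
    have h3 : (Algebra.TensorProduct.includeRight b : p.1.Fiber B) = 0 := (hb.map _).eq_zero
    have h4 := congrArg (TensorProduct.comm A p.1.ResidueField B) h3
    rw [map_zero] at h4
    refine Eq.trans ?_ h4
    show b ⊗ₜ[A] (algebraMap A p.1.ResidueField 1) = _
    rw [map_one]
    rfl
  rw [LinearEquiv.map_eq_zero_iff] at h2
  have h5 : b ⊗ₜ[A] (1 : A) = 0 := hinj (h2.trans (map_zero _).symm)
  simpa using congrArg (TensorProduct.rid A B) h5

theorem isReduced_cpl_iff (A : Type u) [CommRing A] [IsNoetherianRing A] [IsLocalRing A]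
    (hA : EGA4.HasGeomReducedFormalFibres A) : IsReduced A ↔ IsReduced (EGA4.Cpl A) := by
  haveI : IsLocalHom (algebraMap A (EGA4.Cpl A)) := inferInstance
  haveI : Module.Flat A (EGA4.Cpl A) := AdicCompletion.flat_of_isNoetherian _
  haveI : Module.FaithfullyFlat A (EGA4.Cpl A) := Module.FaithfullyFlat.of_flat_of_isLocalHom
  refine ⟨fun h => isReduced_of_flat (minimalPrimes.finite_of_isNoetherianRing A) fun p _ _ => ?_, fun h =>
    isReduced_of_injective (algebraMap A (EGA4.Cpl A)) (FaithfulSMul.algebraMap_injective _ _)⟩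
  haveI := hA p
  exact Algebra.isReduced_of_isGeometricallyReduced (k := p.ResidueField)

theorem isNormalRing_of_equiv {R R' : Type u} [CommRing R] [CommRing R'] (e : R ≃+* R')
    (h : EGA4.IsNormalRing R) : EGA4.IsNormalRing R' := by
  intro p hp
  obtain ⟨_, _⟩ := h (p.comap e.toRingHom)
  let e' : Localization.AtPrime (p.comap e.toRingHom) ≃+* Localization.AtPrime p :=
    IsLocalization.ringEquivOfRingEquiv (M := (p.comap e.toRingHom).primeCompl) (T := p.primeCompl)
      (Localization.AtPrime (p.comap e.toRingHom)) (Localization.AtPrime p) e (by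
        ext x
        simp only [Submonoid.mem_map, Ideal.mem_primeCompl_iff, Ideal.mem_comap]
        exact ⟨by rintro ⟨y, hy, rfl⟩; exact hy, fun hx => ⟨e.symm x, by simpa using hx, e.apply_symm_apply x⟩⟩)
  haveI := e'.symm.toMulEquiv.isDomain (Localization.AtPrime (p.comap e.toRingHom))
  exact ⟨inferInstance, IsIntegrallyClosed.of_equiv e'⟩

/-- Geometrically normal algebras are normal. -/
theorem isNormalRing_of_isGeomNormal {k S : Type u} [Field k] [CommRing S] [Algebra k S]
    (h : EGA4.IsGeomNormal k S) : EGA4.IsNormalRing S :=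
  isNormalRing_of_equiv (Algebra.TensorProduct.lid k S).toRingEquiv (h k inferInstance)

theorem isNormalRing_cpl_iff (A : Type u) [CommRing A] [IsNoetherianRing A] [IsLocalRing A]
    (hA : EGA4.HasGeomNormalFormalFibres A) : EGA4.IsNormalRing A ↔ EGA4.IsNormalRing (EGA4.Cpl A) := by
  haveI : IsLocalHom (algebraMap A (EGA4.Cpl A)) := inferInstance
  haveI : IsNoetherianRing (EGA4.Cpl A) := AdicBasics.isNoetherianRing_completion A
  haveI : Module.Flat A (EGA4.Cpl A) := AdicCompletion.flat_of_isNoetherian _
  haveI : Module.FaithfullyFlat A (EGA4.Cpl A) := Module.FaithfullyFlat.of_flat_of_isLocalHom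
  refine ⟨fun h q _ => normal_ascent (A := A) (fun P _ => ?_) h q, fun h p _ => ?_⟩
  · obtain ⟨Q, _, ⟨e⟩⟩ := exists_fibre_equiv (A := A) P
    obtain ⟨_, _⟩ := isNormalRing_of_isGeomNormal (hA (P.comap (algebraMap A (EGA4.Cpl A)))) Q
    haveI := e.symm.toMulEquiv.isDomain (Localization.AtPrime Q)
    exact ⟨inferInstance, IsIntegrallyClosed.of_equiv (R := Localization.AtPrime Q) e⟩
  · obtain ⟨P, _, hP, -⟩ := exists_minimal_over (B := EGA4.Cpl A) p
    obtain ⟨_, _⟩ := h P
    subst hP
    exact normal_atPrime_descent P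

end Groth.Agent.FlatDepth
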