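import Groth.Agent.FlatDepth.RegHom
import Mathlib

/-!
Ascent and descent of regularity; regular homomorphisms.
-/

set_option autoImplicit false
set_option linter.style.haveILetI false

namespace Groth.Agent.FlatDepth

universe u

open IsLocalRing TensorProduct

theorem isRegularRing_of_equiv (R R' : Type u) [CommRing R] [CommRing R'] (e : R ≃+* R') (h : IsRegularRing R) :
    IsRegularRing R' := by
  haveI := h
  exact IsRegularRing.of_ringEquiv e

theorem isRegularRing_ascent (R S : Type u) [CommRing R] [CommRing S] [Algebra R S] [IsNoetherianRing R]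
    [IsNoetherianRing S] [Module.Flat R S] (hR : IsRegularRing R)
    (hF : ∀ (Q : Ideal R) [Q.IsPrime], IsRegularRing (Q.Fiber S)) : IsRegularRing S where
  isRegularLocalRing_localization P _ := by
    obtain ⟨Q, _, ⟨e⟩⟩ := exists_fibre_equiv (A := R) P
    haveI := (hF (P.comap (algebraMap R S))).isRegularLocalRing_localization Q
    exact isRegular_atPrime_ascent P (hR.isRegularLocalRing_localization _)
      (IsRegularLocalRing.of_ringEquiv (R := Localization.AtPrime Q) e)

theorem isRegularRing_descent (R S : Type u) [CommRing R] [CommRing S] [Algebra R S] [IsNoetherianRing R]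
    [IsNoetherianRing S] [Module.FaithfullyFlat R S] (hS : IsRegularRing S) : IsRegularRing R where
  isRegularLocalRing_localization p _ := by
    obtain ⟨P, _, rfl, -⟩ := exists_minimal_over (B := S) p
    exact isRegular_atPrime_descent P (hS.isRegularLocalRing_localization P)

/-- The residue-field base change of the fibre as a plain base change. -/
theorem fiberTensor_equiv {A B : Type u} [CommRing A] [CommRing B] [Algebra A B] (p : Ideal A) [p.IsPrime]
    (K : Type u) [CommRing K] [Algebra p.ResidueField K] [Algebra A K] [IsScalarTower A p.ResidueField K] :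
    Nonempty ((K ⊗[p.ResidueField] p.Fiber B) ≃+* (K ⊗[A] B)) :=
  ⟨(Algebra.TensorProduct.cancelBaseChange A p.ResidueField K K B).toRingEquiv⟩

theorem isNoetherianRing_fiberTensor {A B : Type u} [CommRing A] [CommRing B] [Algebra A B] (p : Ideal A)
    [p.IsPrime] [IsNoetherianRing (p.Fiber B)] (K : Type u) [CommRing K] [Algebra p.ResidueField K]
    [Module.Finite p.ResidueField K] : IsNoetherianRing (K ⊗[p.ResidueField] p.Fiber B) :=
  isNoetherianRing_tensor_essFinite p.ResidueField (p.Fiber B) K

theorem isRegularHom_comp {A B C : Type u} [CommRing A] [CommRing B] [CommRing C]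
    [Algebra A B] [Algebra B C] [Algebra A C] [IsScalarTower A B C]
    (hAB : CAlg.IsRegularHom A B) (hBC : CAlg.IsRegularHom B C)
    (hN : ∀ (p : Ideal A) [p.IsPrime], IsNoetherianRing (p.Fiber C)) : CAlg.IsRegularHom A C := by
  obtain ⟨_, hAB⟩ := hAB
  obtain ⟨_, hBC⟩ := hBC
  refine ⟨Module.Flat.trans A B C, fun p _ => ⟨hN p, fun K _ _ hK => ?_⟩⟩
  letI : Algebra A K := ((algebraMap p.ResidueField K).comp (algebraMap A p.ResidueField)).toAlgebra
  haveI : IsScalarTower A p.ResidueField K := IsScalarTower.of_algebraMap_eq fun _ => rfl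
  haveI := hK
  haveI := hN p
  haveI := (hAB p).1
  obtain ⟨eB⟩ := fiberTensor_equiv (B := B) p K
  obtain ⟨eC⟩ := fiberTensor_equiv (B := C) p K
  haveI := isNoetherianRing_fiberTensor (B := B) p K
  haveI := isNoetherianRing_fiberTensor (B := C) p K
  haveI : IsNoetherianRing (K ⊗[A] B) := isNoetherianRing_of_ringEquiv _ eB
  haveI : IsNoetherianRing (K ⊗[A] C) := isNoetherianRing_of_ringEquiv _ eC
  exact isRegularRing_of_equiv _ _ eC.symm (comp_ascent' (A := A) (B := B) (C := C) p K
    (fun R _ => IsRegularRing R) isRegularRing_of_equiv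
    (fun R S _ _ _ _ _ _ => isRegularRing_ascent R S)
    (isRegularRing_of_equiv _ _ eB ((hAB p).2 K hK)) fun q _ κ _ _ hκ => (hBC q).2 κ hκ)

theorem isRegularHom_descent {A B C : Type u} [CommRing A] [CommRing B] [CommRing C]
    [Algebra A B] [Algebra B C] [Algebra A C] [IsScalarTower A B C] [Module.FaithfullyFlat B C]
    (h : CAlg.IsRegularHom A C) : CAlg.IsRegularHom A B := by
  obtain ⟨_, h⟩ := h
  refine ⟨SepSurj.flat_of_comp_faithfullyFlat (R := A) (S := B) (T := C), fun p _ => ⟨?_, fun K _ _ hK => ?_⟩⟩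
  · haveI := (h p).1
    exact (comp_descent' (A := A) (B := B) (C := C) p.ResidueField (fun R _ => True) (fun _ _ _ _ _ _ => trivial)
      (fun _ _ _ _ _ _ _ _ _ => trivial) trivial).2
  letI : Algebra A K := ((algebraMap p.ResidueField K).comp (algebraMap A p.ResidueField)).toAlgebra
  haveI : IsScalarTower A p.ResidueField K := IsScalarTower.of_algebraMap_eq fun _ => rfl
  haveI := hK
  haveI := (h p).1
  obtain ⟨eB⟩ := fiberTensor_equiv (B := B) p K
  obtain ⟨eC⟩ := fiberTensor_equiv (B := C) p K
  haveI := isNoetherianRing_fiberTensor (B := C) p K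
  haveI : IsNoetherianRing (K ⊗[A] C) := isNoetherianRing_of_ringEquiv _ eC
  exact isRegularRing_of_equiv _ _ eB.symm (comp_descent' (A := A) (B := B) (C := C) K
    (fun R _ => IsRegularRing R) isRegularRing_of_equiv
    (fun R S _ _ _ _ _ _ => isRegularRing_descent R S) (isRegularRing_of_equiv _ _ eC ((h p).2 K hK))).1

theorem regular_cpl_of_hom (A A' : Type u) [CommRing A] [CommRing A'] [IsNoetherianRing A] [IsNoetherianRing A']
    [IsLocalRing A] [IsLocalRing A'] [Algebra A A'] [IsLocalHom (algebraMap A A')] (hf : CAlg.IsRegularHom A A')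
    (hA' : CAlg.IsRegularHom A' (EGA4.Cpl A')) : CAlg.IsRegularHom A (EGA4.Cpl A) := by
  haveI := hf.1
  obtain ⟨_, h1, h2, h3⟩ := formal_setup A A'
  haveI : IsNoetherianRing (EGA4.Cpl A') := AdicBasics.isNoetherianRing_completion A'
  refine isRegularHom_descent (C := EGA4.Cpl A') (isRegularHom_comp (B := A') hf hA' fun p _ => ?_)
  exact isNoetherianRing_tensor_essFinite A (EGA4.Cpl A') p.ResidueField

theorem regular_quot (A : Type u) [CommRing A] [IsNoetherianRing A] [IsLocalRing A]
    (hA : CAlg.IsRegularHom A (EGA4.Cpl A)) (I : Ideal A) [IsLocalRing (A ⧸ I)] :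
    CAlg.IsRegularHom (A ⧸ I) (EGA4.Cpl (A ⧸ I)) := by
  haveI : IsNoetherianRing (EGA4.Cpl (A ⧸ I)) := AdicBasics.isNoetherianRing_completion (A ⧸ I)
  refine ⟨inferInstance, fun q _ => ⟨isNoetherianRing_tensor_essFinite (A ⧸ I) (EGA4.Cpl (A ⧸ I)) q.ResidueField,
    fun K _ _ hK => ?_⟩⟩
  obtain ⟨_, -, h⟩ := formalFibre_quot A I q
  letI := ((algebraMap q.ResidueField K).comp (algebraMap (q.comap (Ideal.Quotient.mk I)).ResidueField q.ResidueField)).toAlgebra
  haveI : IsScalarTower (q.comap (Ideal.Quotient.mk I)).ResidueField q.ResidueField K :=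
    IsScalarTower.of_algebraMap_eq fun _ => rfl
  obtain ⟨hfin, ⟨e⟩⟩ := h K
  exact isRegularRing_of_equiv _ _ e.symm ((hA.2 _).2 K (hfin hK))

end Groth.Agent.FlatDepth
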