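import Groth.Agent.FlatDepth.RegHom
import Mathlib

/-!
Properties of the geometric fibres tested on finite domains.
-/

set_option autoImplicit false
set_option linter.style.haveILetI false

namespace Groth.Agent.FlatDepth

universe u

open TensorProduct

/-- Primes of the generic fibre. -/
theorem generic_fibre_primes (A C B K : Type u) [CommRing A] [CommRing C] [Algebra A C] [CommRing B] [IsDomain B]
    [Algebra A B] [Field K] [Algebra B K] [Algebra A K] [IsScalarTower A B K] [IsFractionRing B K] :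
    (∀ (Q : Ideal (K ⊗[A] C)) [Q.IsPrime], ∃ (q : Ideal (B ⊗[A] C)) (_ : q.IsPrime),
      q.comap (algebraMap B (B ⊗[A] C)) = ⊥ ∧ Nonempty (Localization.AtPrime q ≃+* Localization.AtPrime Q)) ∧
    (∀ (q : Ideal (B ⊗[A] C)) [q.IsPrime], q.comap (algebraMap B (B ⊗[A] C)) = ⊥ →
      ∃ (Q : Ideal (K ⊗[A] C)) (_ : Q.IsPrime), Nonempty (Localization.AtPrime q ≃+* Localization.AtPrime Q)) := by
  let f : B ⊗[A] C →ₐ[A] K ⊗[A] C := Algebra.TensorProduct.map (IsScalarTower.toAlgHom A B K) (AlgHom.id A C)
  letI : Algebra (B ⊗[A] C) (K ⊗[A] C) := f.toRingHom.toAlgebra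
  haveI : IsScalarTower B (B ⊗[A] C) (K ⊗[A] C) := IsScalarTower.of_algebraMap_eq fun b => by
    show algebraMap B K b ⊗ₜ[A] (1 : C) = f (b ⊗ₜ 1)
    rfl
  let M := Algebra.algebraMapSubmonoid (B ⊗[A] C) (nonZeroDivisors B)
  haveI hloc : IsLocalization M (K ⊗[A] C) := IsLocalization.tensorProduct_tensorProduct A C (nonZeroDivisors B) K
    (RingHom.ext fun c => by
      show f (1 ⊗ₜ c) = 1 ⊗ₜ c
      exact congrArg (· ⊗ₜ[A] c) (map_one (algebraMap B K)))
  have key : ∀ (Q : Ideal (K ⊗[A] C)) [Q.IsPrime],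
      Nonempty (Localization.AtPrime (Q.comap (algebraMap (B ⊗[A] C) (K ⊗[A] C))) ≃+* Localization.AtPrime Q) :=
    fun Q _ => by
      haveI := IsLocalization.isLocalization_isLocalization_atPrime_isLocalization M (Localization.AtPrime Q) Q
      exact ⟨(IsLocalization.algEquiv (Q.comap (algebraMap (B ⊗[A] C) (K ⊗[A] C))).primeCompl _ _).toRingEquiv⟩
  refine ⟨fun Q _ => ⟨_, inferInstance, ?_, key Q⟩, fun q _ hq => ?_⟩
  · rw [Ideal.comap_comap, ← IsScalarTower.algebraMap_eq, IsScalarTower.algebraMap_eq B K, ← Ideal.comap_comap]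
    have hbot : Q.comap (algebraMap K (K ⊗[A] C)) = ⊥ :=
      (Ideal.eq_bot_or_top _).resolve_right Ideal.IsPrime.ne_top'
    rw [hbot, ← RingHom.ker_eq_comap_bot]
    exact (RingHom.injective_iff_ker_eq_bot _).1 (IsFractionRing.injective B K)
  · have hdisj : Disjoint (M : Set (B ⊗[A] C)) q := by
      rw [Set.disjoint_left]
      rintro _ ⟨b, hb, rfl⟩ hbq
      exact nonZeroDivisors.ne_zero hb (by rw [← Ideal.mem_bot, ← hq]; exact hbq)
    haveI := IsLocalization.isPrime_of_isPrime_disjoint M (K ⊗[A] C) q inferInstance hdisj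
    have h1 := IsLocalization.comap_map_of_isPrime_disjoint M (K ⊗[A] C) inferInstance hdisj
    obtain ⟨e⟩ := key (q.map (algebraMap (B ⊗[A] C) (K ⊗[A] C)))
    refine ⟨_, inferInstance, ⟨RingEquiv.trans ?_ e⟩⟩
    exact IsLocalization.ringEquivOfRingEquiv (M := q.primeCompl)
      (T := ((q.map (algebraMap (B ⊗[A] C) (K ⊗[A] C))).comap (algebraMap (B ⊗[A] C) (K ⊗[A] C))).primeCompl)
      (Localization.AtPrime q) _ (RingEquiv.refl _) (by
        ext x
        simp only [Submonoid.mem_map, Ideal.mem_primeCompl_iff]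
        rw [show Ideal.comap (algebraMap (B ⊗[A] C) (K ⊗[A] C)) (q.map (algebraMap (B ⊗[A] C) (K ⊗[A] C))) = q from h1]
        exact ⟨fun ⟨y, hy, hyx⟩ => hyx ▸ hy, fun hx => ⟨x, hx, rfl⟩⟩)

/-- A finite extension of a residue field is the fraction field of a finite domain. -/
theorem exists_finite_domain (A : Type u) [CommRing A] (p : Ideal A) [p.IsPrime] (K : Type u) [Field K]
    [Algebra p.ResidueField K] [Algebra A K] [IsScalarTower A p.ResidueField K] [Module.Finite p.ResidueField K] :
    ∃ B : Subalgebra A K, Module.Finite A B ∧ IsFractionRing B K := by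
  classical
  letI : Algebra (A ⧸ p) K := ((algebraMap p.ResidueField K).comp (algebraMap (A ⧸ p) p.ResidueField)).toAlgebra
  haveI : IsScalarTower (A ⧸ p) p.ResidueField K := IsScalarTower.of_algebraMap_eq fun _ => rfl
  haveI : IsScalarTower A (A ⧸ p) K := IsScalarTower.of_algebraMap_eq fun a => by
    rw [IsScalarTower.algebraMap_apply (A ⧸ p) p.ResidueField K, ← IsScalarTower.algebraMap_apply A (A ⧸ p),
      ← IsScalarTower.algebraMap_apply]
  let b := Module.finBasis p.ResidueField K
  have h1 : ∀ i, ∃ a : A, a ∉ p ∧ IsIntegral A (algebraMap A K a * b i) := fun i => by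
    obtain ⟨⟨m, hm⟩, hint⟩ := IsIntegral.exists_multiple_integral_of_isLocalization (nonZeroDivisors (A ⧸ p))
      (Rₘ := p.ResidueField) (b i) (Algebra.IsIntegral.isIntegral _)
    obtain ⟨a, rfl⟩ := Ideal.Quotient.mk_surjective m
    refine ⟨a, fun ha => nonZeroDivisors.ne_zero hm (Ideal.Quotient.eq_zero_iff_mem.2 ha), ?_⟩
    rw [IsScalarTower.algebraMap_apply A (A ⧸ p) K, Ideal.Quotient.algebraMap_eq, ← Algebra.smul_def]
    exact isIntegral_trans (R := A) (A := A ⧸ p) _ hint
  choose a ha hint using h1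
  let T : Set K := Set.range fun i => algebraMap A K (a i) * b i
  let B := Algebra.adjoin A T
  have hT : ∀ i, algebraMap A K (a i) * b i ∈ B := fun i => Algebra.subset_adjoin ⟨i, rfl⟩
  haveI : Module.Finite A B := Module.Finite.iff_fg.2
    (fg_adjoin_of_finite (Set.finite_range _) (by rintro _ ⟨i, rfl⟩; exact hint i))
  refine ⟨B, inferInstance, IsFractionRing.of_field B K fun z => ?_⟩
  let S : Subfield K := Subfield.closure (B : Set K)
  have hA : ∀ r : A, algebraMap A K r ∈ S := fun r => Subfield.subset_closure (B.algebraMap_mem r)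
  have hκ : ∀ c : p.ResidueField, algebraMap p.ResidueField K c ∈ S := fun c => by
    obtain ⟨x, y, -, rfl⟩ := IsFractionRing.div_surjective (A ⧸ p) c
    obtain ⟨x, rfl⟩ := Ideal.Quotient.mk_surjective x
    obtain ⟨y, rfl⟩ := Ideal.Quotient.mk_surjective y
    rw [map_div₀]
    refine div_mem ?_ ?_ <;>
    · rw [← Ideal.Quotient.algebraMap_eq, ← IsScalarTower.algebraMap_apply, ← IsScalarTower.algebraMap_apply]
      exact hA _
  have hb : ∀ i, b i ∈ S := fun i => by
    have hne : algebraMap A K (a i) ≠ 0 := by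
      rw [IsScalarTower.algebraMap_apply A p.ResidueField K, map_ne_zero, ne_eq, Ideal.algebraMap_residueField_eq_zero]
      exact ha i
    rw [show b i = (algebraMap A K (a i) * b i) / algebraMap A K (a i) from (mul_div_cancel_left₀ _ hne).symm]
    exact div_mem (Subfield.subset_closure (hT i)) (hA _)
  have hz : z ∈ S := by
    rw [← b.sum_repr z]
    exact sum_mem fun i _ => by rw [Algebra.smul_def]; exact mul_mem (hκ _) (hb i)
  obtain ⟨x, hx, y, hy, rfl⟩ := Subfield.mem_closure_iff.1 hz
  have hcl : ∀ t ∈ Subring.closure (B : Set K), t ∈ B :=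
    fun t ht => Subring.closure_le (t := B.toSubring).2 le_rfl ht
  exact ⟨⟨x, hcl x hx⟩, ⟨y, hcl y hy⟩, rfl⟩

/-- The fraction field of a finite domain is finite over the residue field of the kernel. -/
theorem exists_residue_finite (A B K : Type u) [CommRing A] [CommRing B] [IsDomain B] [Algebra A B] [Module.Finite A B]
    [Field K] [Algebra B K] [IsFractionRing B K] [Algebra A K] [IsScalarTower A B K] :
    ∃ (p : Ideal A) (_ : p.IsPrime) (_ : Algebra p.ResidueField K),
      IsScalarTower A p.ResidueField K ∧ Module.Finite p.ResidueField K := by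
  let p := (⊥ : Ideal K).comap (algebraMap A K)
  have hpu : p.primeCompl ≤ (IsUnit.submonoid K).comap (algebraMap A K) := fun x hx =>
    Ne.isUnit fun h => hx (Ideal.mem_bot.2 h)
  letI : Algebra p.ResidueField K := (Ideal.ResidueField.lift p (algebraMap A K) (fun x hx => hx) hpu).toAlgebra
  haveI : IsScalarTower A p.ResidueField K := IsScalarTower.of_algebraMap_eq fun a =>
    (Ideal.ResidueField.lift_algebraMap _ _ _ _ a).symm
  refine ⟨p, inferInstance, inferInstance, inferInstance, ?_⟩
  haveI : Algebra.EssFiniteType B K := Algebra.EssFiniteType.of_isLocalization K (nonZeroDivisors B)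
  haveI : Algebra.EssFiniteType A K := Algebra.EssFiniteType.comp A B K
  haveI : Algebra.EssFiniteType p.ResidueField K := Algebra.EssFiniteType.of_comp A p.ResidueField K
  haveI : Algebra.IsAlgebraic p.ResidueField K := ⟨fun z => by
    obtain ⟨x, y, -, rfl⟩ := IsFractionRing.div_surjective B z
    refine mem_algebraicClosure_iff.1 (div_mem ?_ ?_) <;>
      exact mem_algebraicClosure_iff'.2 (((Algebra.IsIntegral.isIntegral (R := A) _).map (IsScalarTower.toAlgHom A B K)).tower_top)⟩
  exact Algebra.finite_of_essFiniteType_of_isAlgebraic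

/-- Local properties of the geometric fibres are tested on finite domains. -/
theorem forall_fibre_iff (A C : Type u) [CommRing A] [CommRing C] [Algebra A C]
    (P : ∀ (R : Type u) [CommRing R], Prop)
    (hequiv : ∀ (R R' : Type u) [CommRing R] [CommRing R'], (R ≃+* R') → P R → P R') :
    (∀ (p : Ideal A) [p.IsPrime] (K : Type u) [Field K] [Algebra p.ResidueField K] [Algebra A K]
        [IsScalarTower A p.ResidueField K], Module.Finite p.ResidueField K →
        ∀ (Q : Ideal (K ⊗[A] C)) [Q.IsPrime], P (Localization.AtPrime Q)) ↔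
      ∀ (B : Type u) [CommRing B] [IsDomain B] [Algebra A B] [Module.Finite A B] (q : Ideal (B ⊗[A] C)) [q.IsPrime],
        q.comap (algebraMap B (B ⊗[A] C)) = ⊥ → P (Localization.AtPrime q) := by
  refine ⟨fun h B _ _ _ _ q _ hq => ?_, fun h p _ K _ _ _ _ hK Q _ => ?_⟩
  · obtain ⟨Q, _, ⟨e⟩⟩ := (generic_fibre_primes A C B (FractionRing B)).2 q hq
    obtain ⟨p, _, _, _, hfin⟩ := exists_residue_finite A B (FractionRing B)
    exact hequiv _ _ e.symm (h p (FractionRing B) hfin Q)
  · haveI := hK
    obtain ⟨B, _, _⟩ := exists_finite_domain A p K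
    obtain ⟨q, _, hq, ⟨e⟩⟩ := (generic_fibre_primes A C B K).1 Q
    exact hequiv _ _ e (h B q hq)

theorem regular_cpl_iff (A : Type u) [CommRing A] [IsNoetherianRing A] [IsLocalRing A] :
    CAlg.IsRegularHom A (EGA4.Cpl A) ↔ ∀ (B : Type u) [CommRing B] [IsDomain B] [Algebra A B] [Module.Finite A B]
      (q : Ideal (B ⊗[A] EGA4.Cpl A)) [q.IsPrime],
      q.comap (algebraMap B (B ⊗[A] EGA4.Cpl A)) = ⊥ → IsRegularLocalRing (Localization.AtPrime q) := by
  haveI : IsNoetherianRing (EGA4.Cpl A) := AdicBasics.isNoetherianRing_completion A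
  rw [← forall_fibre_iff A (EGA4.Cpl A) (fun R _ => IsRegularLocalRing R)
    (fun R R' _ _ e h => haveI := h; IsRegularLocalRing.of_ringEquiv e)]
  refine ⟨fun h p _ K _ _ _ _ hK Q _ => ?_, fun h => ⟨inferInstance, fun p _ =>
    ⟨isNoetherianRing_tensor_essFinite A (EGA4.Cpl A) p.ResidueField, fun K _ _ hK => ?_⟩⟩⟩
  · haveI := (h.2 p).2 K hK
    haveI : IsRegularRing (K ⊗[A] EGA4.Cpl A) :=
      IsRegularRing.of_ringEquiv (Algebra.TensorProduct.cancelBaseChange A p.ResidueField K K (EGA4.Cpl A)).toRingEquiv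
    exact IsRegularRing.isRegularLocalRing_localization Q
  · letI : Algebra A K := ((algebraMap p.ResidueField K).comp (algebraMap A p.ResidueField)).toAlgebra
    haveI : IsScalarTower A p.ResidueField K := IsScalarTower.of_algebraMap_eq fun _ => rfl
    haveI := hK
    haveI : Algebra.EssFiniteType A K := Algebra.EssFiniteType.comp A p.ResidueField K
    haveI := isNoetherianRing_tensor_essFinite A (EGA4.Cpl A) K
    haveI : IsRegularRing (K ⊗[A] EGA4.Cpl A) := ⟨fun Q _ => h p K hK Q⟩
    exact IsRegularRing.of_ringEquiv (Algebra.TensorProduct.cancelBaseChange A p.ResidueField K K (EGA4.Cpl A)).toRingEquiv.symm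

theorem geomReduced_cpl_iff (A : Type u) [CommRing A] [IsNoetherianRing A] [IsLocalRing A] :
    EGA4.HasGeomReducedFormalFibres A ↔ ∀ (B : Type u) [CommRing B] [IsDomain B] [Algebra A B] [Module.Finite A B]
      (q : Ideal (B ⊗[A] EGA4.Cpl A)) [q.IsPrime],
      q.comap (algebraMap B (B ⊗[A] EGA4.Cpl A)) = ⊥ → IsReduced (Localization.AtPrime q) := by
  rw [← forall_fibre_iff A (EGA4.Cpl A) (fun R _ => IsReduced R)
    (fun R R' _ _ e h => isReduced_of_injective e.symm e.symm.injective)]
  refine ⟨fun h p _ K _ _ _ _ hK Q _ => ?_, fun h p _ => geomReduced_of_finite fun K _ _ hK => ?_⟩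
  · haveI := h p
    haveI : IsReduced (K ⊗[p.ResidueField] EGA4.formalFibre A p) :=
      GeomRedPull.isReduced_field_tensor (k := p.ResidueField) (A := EGA4.formalFibre A p) K
    haveI : IsReduced (K ⊗[A] EGA4.Cpl A) :=
      isReduced_of_injective (Algebra.TensorProduct.cancelBaseChange A p.ResidueField K K (EGA4.Cpl A)).symm
        (Algebra.TensorProduct.cancelBaseChange A p.ResidueField K K (EGA4.Cpl A)).symm.injective
    infer_instance
  · letI : Algebra A K := ((algebraMap p.ResidueField K).comp (algebraMap A p.ResidueField)).toAlgebra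
    haveI : IsScalarTower A p.ResidueField K := IsScalarTower.of_algebraMap_eq fun _ => rfl
    haveI : ∀ Q : MaximalSpectrum (K ⊗[A] EGA4.Cpl A), IsReduced (Localization.AtPrime Q.asIdeal) :=
      fun Q => h p K hK Q.asIdeal
    haveI : IsReduced (K ⊗[A] EGA4.Cpl A) := isReduced_of_injective (MaximalSpectrum.toPiLocalization _)
      (MaximalSpectrum.toPiLocalization_injective _)
    exact isReduced_of_injective (Algebra.TensorProduct.cancelBaseChange A p.ResidueField K K (EGA4.Cpl A))
      (Algebra.TensorProduct.cancelBaseChange A p.ResidueField K K (EGA4.Cpl A)).injective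

end Groth.Agent.FlatDepth
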