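import Groth.Agent.FlatModB.QuasiFlat
import Groth.Agent.QGorD.Basic
import Groth.Prelude.Def_EGA4b
import Mathlib

/-!
Dimension of `N ⊗ M` along a local homomorphism.
-/

set_option autoImplicit false

namespace Groth.Agent.FlatDepth

universe u

open TensorProduct IsLocalRing

variable {A B : Type u} [CommRing A] [CommRing B] [Algebra A B]
  (M : Type u) [AddCommGroup M] [Module A M] [Module.Finite A M]
  (N : Type u) [AddCommGroup N] [Module B N] [Module A N] [IsScalarTower A B N] [Module.Finite B N]

theorem finite_tensor : Module.Finite B (N ⊗[A] M) :=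
  haveI : Module.Finite B (N ⊗[B] (B ⊗[A] M)) := inferInstance
  Module.Finite.equiv (AlgebraTensorModule.cancelBaseChange A B B N M)

/-- `Supp (N ⊗_A M) = Supp N ∩ Supp M`. -/
theorem mem_support_tensor (P : PrimeSpectrum B) :
    P ∈ Module.support B (N ⊗[A] M) ↔
      P ∈ Module.support B N ∧ P.comap (algebraMap A B) ∈ Module.support A M := by
  haveI := finite_tensor (A := A) (B := B) M N
  let p := P.comap (algebraMap A B)
  let K := P.asIdeal.ResidueField
  let k := p.asIdeal.ResidueField
  rw [Module.mem_support_iff_nontrivial_residueField_tensorProduct, Module.mem_support_iff_nontrivial_residueField_tensorProduct,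
    Module.mem_support_iff_nontrivial_residueField_tensorProduct]
  letI : Algebra k K := (Ideal.ResidueField.map p.asIdeal P.asIdeal (algebraMap A B) rfl).toAlgebra
  haveI : IsScalarTower A k K := IsScalarTower.of_algebraMap_eq fun a => by
    rw [RingHom.algebraMap_toAlgebra, Ideal.ResidueField.map_algebraMap, ← IsScalarTower.algebraMap_apply]
  let e1 : K ⊗[B] (N ⊗[A] M) ≃ₗ[K] (K ⊗[B] N) ⊗[K] (K ⊗[A] M) :=
    (AlgebraTensorModule.congr (LinearEquiv.refl K K) (AlgebraTensorModule.cancelBaseChange A B B N M).symm)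
      ≪≫ₗ AlgebraTensorModule.distribBaseChange B K N (B ⊗[A] M)
      ≪≫ₗ AlgebraTensorModule.congr (LinearEquiv.refl K (K ⊗[B] N)) (AlgebraTensorModule.cancelBaseChange A B K K M)
  let e2 : K ⊗[A] M ≃ₗ[K] K ⊗[k] (k ⊗[A] M) := (AlgebraTensorModule.cancelBaseChange A k K K M).symm
  rw [e1.nontrivial_congr]
  constructor
  · intro h
    refine ⟨?_, ?_⟩
    · by_contra hN
      haveI := not_nontrivial_iff_subsingleton.1 hN
      exact not_subsingleton ((K ⊗[B] N) ⊗[K] (K ⊗[A] M)) inferInstance
    · by_contra hM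
      haveI := not_nontrivial_iff_subsingleton.1 hM
      haveI := e2.toEquiv.subsingleton
      exact not_subsingleton ((K ⊗[B] N) ⊗[K] (K ⊗[A] M)) inferInstance
  · rintro ⟨_, hM⟩
    haveI : Nontrivial (k ⊗[A] M) := hM
    haveI : Nontrivial (K ⊗[A] M) := by
      rw [e2.nontrivial_congr]
      exact Module.FaithfullyFlat.nontrivial_tensorProduct_iff_right k K |>.2 inferInstance
    exact Module.FaithfullyFlat.nontrivial_tensorProduct_iff_right K (K ⊗[B] N) |>.2 inferInstance

variable [IsLocalRing A] [IsLocalRing B]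

theorem mem_support_fibMod (P : PrimeSpectrum B) :
    P ∈ Module.support B (N ⧸ ((maximalIdeal A).map (algebraMap A B) • (⊤ : Submodule B N))) ↔
      P ∈ Module.support B N ∧ maximalIdeal A ≤ (P.comap (algebraMap A B)).asIdeal := by
  rw [Module.support_quotient]
  exact and_congr Iff.rfl (PrimeSpectrum.mem_zeroLocus _ _ |>.trans Ideal.map_le_iff_le_comap)

theorem supportDim_tensor_le [IsNoetherianRing B] [IsNoetherianRing A] [IsLocalHom (algebraMap A B)]
    [Nontrivial M] [Nontrivial N] :
    Module.supportDim B (N ⊗[A] M) ≤ Module.supportDim A M +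
      Module.supportDim B (N ⧸ ((maximalIdeal A).map (algebraMap A B) • (⊤ : Submodule B N))) := by
  haveI := finite_tensor (A := A) (B := B) M N
  let J := Module.annihilator B N ⊔ (Module.annihilator A M).map (algebraMap A B)
  have hJ : J ≤ Module.annihilator B (N ⊗[A] M) := by
    refine sup_le (fun b hb => ?_) (Ideal.map_le_iff_le_comap.2 fun a ha => ?_)
    · rw [Module.mem_annihilator] at hb ⊢
      intro x
      induction x using TensorProduct.induction_on with
      | zero => rw [smul_zero]
      | tmul n m => rw [TensorProduct.smul_tmul', hb, TensorProduct.zero_tmul]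
      | add x y hx hy => rw [smul_add, hx, hy, add_zero]
    · rw [Ideal.mem_comap, Module.mem_annihilator]
      rw [Module.mem_annihilator] at ha
      intro x
      induction x using TensorProduct.induction_on with
      | zero => rw [smul_zero]
      | tmul n m => rw [TensorProduct.smul_tmul', algebraMap_smul, TensorProduct.smul_tmul, ha, TensorProduct.tmul_zero]
      | add x y hx hy => rw [smul_add, hx, hy, add_zero]
  let I := Module.annihilator A M
  have hI : I ≠ ⊤ := fun e => not_subsingleton M ⟨fun x y => by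
    have h1 : (1 : A) ∈ I := e ▸ Submodule.mem_top
    rw [← one_smul A x, ← one_smul A y, Module.mem_annihilator.1 h1, Module.mem_annihilator.1 h1]⟩
  have hJn : J ≤ maximalIdeal B := by
    refine sup_le (IsLocalRing.le_maximalIdeal fun e => not_subsingleton N ⟨fun x y => ?_⟩)
      ((Ideal.map_mono (IsLocalRing.le_maximalIdeal hI)).trans (map_maximalIdeal_le (algebraMap A B)))
    have h1 : (1 : B) ∈ Module.annihilator B N := e ▸ Submodule.mem_top
    rw [← one_smul B x, ← one_smul B y, Module.mem_annihilator.1 h1, Module.mem_annihilator.1 h1]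
  let A' := A ⧸ I
  let B' := B ⧸ J
  haveI : Nontrivial A' := Ideal.Quotient.nontrivial_iff.2 hI
  haveI : Nontrivial B' := Ideal.Quotient.nontrivial_iff.2 fun e => (maximalIdeal.isMaximal B).ne_top (top_le_iff.1 (e ▸ hJn))
  haveI : IsLocalRing A' := IsLocalRing.of_surjective' (Ideal.Quotient.mk I) Ideal.Quotient.mk_surjective
  haveI : IsLocalRing B' := IsLocalRing.of_surjective' (Ideal.Quotient.mk J) Ideal.Quotient.mk_surjective
  letI : Algebra A' B' := (Ideal.quotientMap J (algebraMap A B)
    (Ideal.map_le_iff_le_comap.1 le_sup_right)).toAlgebra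
  have hcomp : (algebraMap A' B').comp (Ideal.Quotient.mk I) = (Ideal.Quotient.mk J).comp (algebraMap A B) :=
    RingHom.ext fun _ => rfl
  have hmA : (maximalIdeal A').comap (Ideal.Quotient.mk I) = maximalIdeal A :=
    IsLocalRing.eq_maximalIdeal (Ideal.comap_isMaximal_of_surjective _ Ideal.Quotient.mk_surjective)
  have hmB : (maximalIdeal B').comap (Ideal.Quotient.mk J) = maximalIdeal B :=
    IsLocalRing.eq_maximalIdeal (Ideal.comap_isMaximal_of_surjective _ Ideal.Quotient.mk_surjective)
  haveI : (maximalIdeal B').LiesOver (maximalIdeal A') := ⟨by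
    apply Ideal.comap_injective_of_surjective (Ideal.Quotient.mk I) Ideal.Quotient.mk_surjective
    rw [hmA, Ideal.under_def, Ideal.comap_comap, hcomp, ← Ideal.comap_comap, hmB,
      IsLocalRing.maximalIdeal_comap (f := algebraMap A B)]⟩
  have hht := Ideal.height_le_height_add_of_liesOver (maximalIdeal A') (maximalIdeal B')
  rw [Module.supportDim_eq_ringKrullDim_quotient_annihilator, Module.supportDim_eq_ringKrullDim_quotient_annihilator]
  refine (ringKrullDim_le_of_surjective (Ideal.Quotient.factor hJ) (Ideal.Quotient.factor_surjective hJ)).trans ?_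
  rw [← IsLocalRing.maximalIdeal_height_eq_ringKrullDim (R := B'), ← IsLocalRing.maximalIdeal_height_eq_ringKrullDim (R := A')]
  refine (WithBot.coe_le_coe.2 hht).trans ?_
  rw [WithBot.coe_add]
  refine add_le_add le_rfl ?_
  let K' := (maximalIdeal A').map (algebraMap A' B')
  haveI : Nontrivial (B' ⧸ K') := Ideal.Quotient.nontrivial_iff.2 fun e =>
    (maximalIdeal.isMaximal B').ne_top (top_le_iff.1 (e.ge.trans (Ideal.map_le_iff_le_comap.2
      (Ideal.over_def (maximalIdeal B') (maximalIdeal A')).le)))
  refine (Ideal.height_le_ringKrullDim_of_ne_top fun e => ?_).trans ?_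
  · have := congrArg (Ideal.comap (Ideal.Quotient.mk K')) e
    rw [Ideal.comap_map_of_surjective _ Ideal.Quotient.mk_surjective, ← RingHom.ker_eq_comap_bot, Ideal.mk_ker,
      Ideal.comap_top] at this
    exact (maximalIdeal.isMaximal B').ne_top (top_le_iff.1 (this.ge.trans (sup_le le_rfl (Ideal.map_le_iff_le_comap.2
      (Ideal.over_def (maximalIdeal B') (maximalIdeal A')).le))))
  let Q := Module.annihilator B (N ⧸ ((maximalIdeal A).map (algebraMap A B) • (⊤ : Submodule B N)))
  let π : B →+* B' ⧸ K' := (Ideal.Quotient.mk K').comp (Ideal.Quotient.mk J)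
  have hQ : Q ≤ (RingHom.ker π).radical := by
    rw [Ideal.radical_eq_sInf]
    refine le_sInf fun P hP => ?_
    obtain ⟨hPk, hPp⟩ := hP
    have hJP : J ≤ P := fun b hb => hPk (by
      rw [RingHom.mem_ker, RingHom.comp_apply, Ideal.Quotient.eq_zero_iff_mem.2 hb, map_zero])
    have hsupp : (⟨P, hPp⟩ : PrimeSpectrum B) ∈ Module.support B (N ⧸ ((maximalIdeal A).map (algebraMap A B) • (⊤ : Submodule B N))) := by
      rw [mem_support_fibMod, Module.mem_support_iff_of_finite]
      refine ⟨le_sup_left.trans hJP, fun a ha => hPk ?_⟩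
      rw [RingHom.mem_ker, RingHom.comp_apply, Ideal.Quotient.eq_zero_iff_mem]
      refine Ideal.mem_map_of_mem (algebraMap A' B') (x := Ideal.Quotient.mk I a) ?_
      rw [← Ideal.mem_comap, hmA]
      exact ha
    exact Module.mem_support_iff_of_finite.1 hsupp
  have h1 : ringKrullDim (B' ⧸ K') = ringKrullDim (B ⧸ (RingHom.ker π).radical) := by
    rw [← (RingHom.quotientKerEquivOfSurjective (f := π) (Ideal.Quotient.mk_surjective.comp Ideal.Quotient.mk_surjective)).ringKrullDim,
      ringKrullDim_quotient, ringKrullDim_quotient, PrimeSpectrum.zeroLocus_radical]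
  exact (h1.trans_le (ringKrullDim_le_of_surjective (Ideal.Quotient.factor hQ) (Ideal.Quotient.factor_surjective hQ))).trans_eq
    (Module.supportDim_eq_ringKrullDim_quotient_annihilator B _).symm

theorem supportDim_tensor_ge [IsNoetherianRing A] [IsNoetherianRing B] [IsLocalHom (algebraMap A B)]
    [Module.Flat A N] [Nontrivial M] [Nontrivial N] :
    Module.supportDim A M + Module.supportDim B (N ⧸ ((maximalIdeal A).map (algebraMap A B) • (⊤ : Submodule B N))) ≤
      Module.supportDim B (N ⊗[A] M) := by
  set F := N ⧸ ((maximalIdeal A).map (algebraMap A B) • (⊤ : Submodule B N))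
  haveI : Nontrivial F := by
    rw [Submodule.Quotient.nontrivial_iff, ne_comm]
    exact Submodule.top_ne_ideal_smul_of_le_jacobson_annihilator ((map_maximalIdeal_le (algebraMap A B)).trans
      (IsLocalRing.maximalIdeal_le_jacobson _))
  obtain ⟨s, hs⟩ := QGorD.exists_nat_supportDim (R := A) M
  obtain ⟨t, ht⟩ := QGorD.exists_nat_supportDim (R := B) F
  rw [hs, ht]
  obtain ⟨l, hl⟩ := Order.le_krullDim_iff.1 (hs.ge : (s : WithBot ℕ∞) ≤ Module.supportDim A M)
  obtain ⟨r, hr⟩ := Order.le_krullDim_iff.1 (ht.ge : (t : WithBot ℕ∞) ≤ Module.supportDim B F)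
  let T := Module.support B (N ⊗[A] M)
  have hF : ∀ P : Module.support B F, (P : PrimeSpectrum B) ∈ T ∧
      maximalIdeal A ≤ ((P : PrimeSpectrum B).comap (algebraMap A B)).asIdeal := fun P => by
    obtain ⟨h1, h2⟩ := (mem_support_fibMod N P.1).1 P.2
    refine ⟨(mem_support_tensor M N P.1).2 ⟨h1, ?_⟩, h2⟩
    exact Module.mem_support_mono (M := M) (fun a ha => h2 (IsLocalRing.le_maximalIdeal Ideal.IsPrime.ne_top' ha))
      l.last.2
  let Q0 : PrimeSpectrum B := r.head.1
  have hQ0 := hF r.head
  have hQN : Q0 ∈ Module.support B N := ((mem_support_tensor M N Q0).1 hQ0.1).1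
  -- lift the chain below `Q0`
  let R' := B ⧸ Module.annihilator B N
  letI : Module R' N := Module.IsTorsionBySet.module
    ((Module.isTorsionBySet_iff_subset_annihilator B N).mpr subset_rfl)
  haveI : IsScalarTower B R' N := ⟨fun b r x => by
    obtain ⟨r, rfl⟩ := Ideal.Quotient.mk_surjective r
    show Ideal.Quotient.mk _ (b * r) • x = b • (r • x)
    rw [← mul_smul]
    rfl⟩
  haveI : Module.Finite R' N := Module.Finite.of_restrictScalars_finite B R' N
  haveI : IsScalarTower A R' N := IsScalarTower.of_algebraMap_smul fun a n => by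
    rw [IsScalarTower.algebraMap_apply A B R', algebraMap_smul, algebraMap_smul]
  have step : ∀ (q : Module.support A M) (P : PrimeSpectrum B), P ∈ Module.support B N →
      (q : PrimeSpectrum A).asIdeal ≤ P.asIdeal.comap (algebraMap A B) →
      ∃ P' : T, (P' : PrimeSpectrum B).asIdeal ≤ P.asIdeal ∧ (P' : PrimeSpectrum B).comap (algebraMap A B) = q := by
    intro q P hP hq
    have hann := Module.mem_support_iff_of_finite.1 hP
    let π := Ideal.Quotient.mk (Module.annihilator B N)
    haveI : (P.asIdeal.map π).IsPrime := Ideal.map_isPrime_of_surjective Ideal.Quotient.mk_surjective (by rwa [Ideal.mk_ker])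
    let P₁ : PrimeSpectrum R' := ⟨P.asIdeal.map π, inferInstance⟩
    have hP₁ : P₁.asIdeal.comap π = P.asIdeal := by
      rw [Ideal.comap_map_of_surjective _ Ideal.Quotient.mk_surjective, ← RingHom.ker_eq_comap_bot, Ideal.mk_ker,
        sup_eq_left.2 hann]
    have hP1' : P₁ ∈ Module.support R' N := by
      rw [Module.mem_support_iff_of_finite]
      intro x hx
      obtain ⟨x, rfl⟩ := Ideal.Quotient.mk_surjective x
      rw [← Ideal.mem_comap, hP₁]
      refine hann (Module.mem_annihilator.2 fun n => ?_)
      exact (algebraMap_smul R' x n).symm.trans (Module.mem_annihilator.1 hx n)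
    obtain ⟨Q, hQP, hQq⟩ := FlatModB.exists_prime_le_of_flat N P₁ hP1' q.1 (by
      rw [IsScalarTower.algebraMap_eq A B R', ← Ideal.comap_comap, Ideal.Quotient.algebraMap_eq, hP₁]
      exact hq)
    have hQq' : (Q.comap π).comap (algebraMap A B) = q := by
      rw [← PrimeSpectrum.comap_comp_apply]
      exact hQq
    have hQN : Q.comap π ∈ Module.support B N := Module.mem_support_iff_of_finite.2 fun x hx => by
      show π x ∈ Q.asIdeal
      rw [Ideal.Quotient.eq_zero_iff_mem.2 hx]
      exact Q.asIdeal.zero_mem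
    refine ⟨⟨Q.comap π, (mem_support_tensor M N _).2 ⟨hQN, ?_⟩⟩, (Ideal.comap_mono hQP).trans hP₁.le, hQq'⟩
    rw [hQq']
    exact q.2
  choose g hgle hgq using step
  let Good := fun i : Fin (l.length + 1) => {P : T // (P : PrimeSpectrum B).comap (algebraMap A B) = (l i).1 ∧
    (P : PrimeSpectrum B).asIdeal ≤ Q0.asIdeal}
  have hTN : ∀ P : T, (P : PrimeSpectrum B) ∈ Module.support B N := fun P => ((mem_support_tensor M N P.1).1 P.2).1
  have hlt : ∀ i : Fin l.length, (l i.castSucc).1 < (l i.succ).1 := fun i => l.step i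
  let L : ∀ i, Good i := fun i => Fin.reverseInduction (motive := Good)
    ⟨g (l (Fin.last _)) Q0 hQN ((IsLocalRing.le_maximalIdeal Ideal.IsPrime.ne_top').trans hQ0.2),
      hgq _ _ _ _, hgle _ _ _ _⟩
    (fun i P => ⟨g (l i.castSucc) P.1.1 (hTN P.1)
        ((show (l i.castSucc).1.asIdeal ≤ (l i.succ).1.asIdeal from (hlt i).le).trans_eq (congrArg PrimeSpectrum.asIdeal P.2.1).symm),
      hgq _ _ _ _, (hgle _ _ _ _).trans P.2.2⟩) i
  have hL : ∀ i : Fin l.length, (L i.castSucc).1.1.asIdeal ≤ (L i.succ).1.1.asIdeal := fun i => by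
    show (Fin.reverseInduction (motive := Good) _ _ i.castSucc).1.1.asIdeal ≤ _
    rw [Fin.reverseInduction_castSucc]
    exact hgle _ _ _ _
  let L' : LTSeries T := LTSeries.mk l.length (fun i => (L i).1) (Fin.strictMono_iff_lt_succ.2 fun i =>
    lt_of_le_of_ne (hL i) fun e => (hlt i).ne (by rw [← (L i.castSucc).2.1, ← (L i.succ).2.1, e]))
  let R : LTSeries T := r.map (fun P => ⟨P.1, (hF P).1⟩) fun _ _ h => h
  have hle : L'.last ≤ R.head := (L (Fin.last _)).2.2
  have hlen : ((s + t : ℕ) : WithBot ℕ∞) ≤ Order.krullDim T := by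
    rcases hle.eq_or_lt with e | hlt'
    · refine (le_of_eq ?_).trans (Order.LTSeries.length_le_krullDim (L'.smash R e))
      show _ = ((l.length + r.length : ℕ) : WithBot ℕ∞)
      rw [hl, hr]
    · refine le_trans ?_ (Order.LTSeries.length_le_krullDim (L'.append R hlt'))
      show ((s + t : ℕ) : WithBot ℕ∞) ≤ ((l.length + r.length + 1 : ℕ) : WithBot ℕ∞)
      rw [hl, hr]
      exact_mod_cast Nat.le_succ _
  refine le_of_eq_of_le ?_ hlen
  push_cast
  rfl

end Groth.Agent.FlatDepth
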