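import Groth.Agent.FlatDepth.CMTensor
import Groth.Agent.FlatDepth.AtPrime
import Groth.Agent.QGorD.Skn
import Groth.Agent.InjFibre.RegSeq
import Groth.Agent.LocH.AdjDepthChange
import Mathlib

/-!
`(S_k)` of `F ⊗ E` along flat modules.
-/

set_option autoImplicit false
set_option linter.style.haveILetI false

namespace Groth.Agent.FlatDepth

universe u

open TensorProduct IsLocalRing

theorem supportDim_localized_eq {A : Type u} [CommRing A] (p : Ideal A) [p.IsPrime] (M : Type u) [AddCommGroup M]
    [Module A M] : Module.supportDim (Localization.AtPrime p) (LocalizedModule p.primeCompl M) =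
      Order.krullDim {x : PrimeSpectrum A // x ∈ Module.support A M ∧ x.asIdeal ≤ p} := by
  have hd : ∀ x : PrimeSpectrum A, x.asIdeal ≤ p → Disjoint (p.primeCompl : Set A) (x.asIdeal : Set A) :=
    fun x hx => Set.disjoint_left.2 fun a ha hax => ha (hx hax)
  let c := PrimeSpectrum.comap (algebraMap A (Localization.AtPrime p))
  let g : ∀ x : PrimeSpectrum A, x.asIdeal ≤ p → PrimeSpectrum (Localization.AtPrime p) := fun x hx =>
    ⟨x.asIdeal.map (algebraMap A _), IsLocalization.isPrime_of_isPrime_disjoint p.primeCompl _ _ x.isPrime (hd x hx)⟩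
  have hg : ∀ x hx, c (g x hx) = x := fun x hx =>
    PrimeSpectrum.ext (IsLocalization.comap_map_of_isPrime_disjoint p.primeCompl _ x.isPrime (hd x hx))
  let e : ↥(Module.support (Localization.AtPrime p) (LocalizedModule p.primeCompl M)) ≃o
      {x : PrimeSpectrum A // x ∈ Module.support A M ∧ x.asIdeal ≤ p} :=
    { toFun := fun y => ⟨c y.1, (QGorD.mem_support_localized_iff p y.1).1 y.2, comap_loc_le p y.1.asIdeal⟩
      invFun := fun x => ⟨g x.1 x.2.2, (QGorD.mem_support_localized_iff p _).2 ((congrArg (· ∈ Module.support A M) (hg x.1 x.2.2)).mpr x.2.1)⟩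
      left_inv := fun y => Subtype.ext (PrimeSpectrum.localization_comap_injective _ p.primeCompl (hg (c y.1) (comap_loc_le p y.1.asIdeal)))
      right_inv := fun x => Subtype.ext (hg x.1 x.2.2)
      map_rel_iff' := fun {a b} => by
        refine ⟨fun h => ?_, fun h => Ideal.comap_mono h⟩
        show a.1.asIdeal ≤ b.1.asIdeal
        rw [← IsLocalization.map_comap p.primeCompl (Localization.AtPrime p) a.1.asIdeal,
          ← IsLocalization.map_comap p.primeCompl (Localization.AtPrime p) b.1.asIdeal]
        exact Ideal.map_mono h }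
  exact Order.krullDim_eq_of_orderIso e

theorem supportDim_localization_localization {A : Type u} [CommRing A] (q : Ideal A) [q.IsPrime]
    (P : Ideal (Localization.AtPrime q)) [P.IsPrime] (M : Type u) [AddCommGroup M] [Module A M] :
    Module.supportDim (Localization.AtPrime P) (LocalizedModule P.primeCompl (LocalizedModule q.primeCompl M)) =
      Module.supportDim (Localization.AtPrime (P.comap (algebraMap A (Localization.AtPrime q))))
        (LocalizedModule (P.comap (algebraMap A (Localization.AtPrime q))).primeCompl M) := by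
  let p := P.comap (algebraMap A (Localization.AtPrime q))
  rw [supportDim_localized_eq, supportDim_localized_eq]
  have hpq : p ≤ q := comap_loc_le q P
  have hd : ∀ x : PrimeSpectrum A, x.asIdeal ≤ p → Disjoint (q.primeCompl : Set A) (x.asIdeal : Set A) :=
    fun x hx => Set.disjoint_left.2 fun a ha hax => ha (hpq (hx hax))
  let c := PrimeSpectrum.comap (algebraMap A (Localization.AtPrime q))
  have hmap : ∀ a : Ideal (Localization.AtPrime q), (a.comap (algebraMap A (Localization.AtPrime q))).map (algebraMap A _) = a :=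
    fun a => IsLocalization.map_comap q.primeCompl _ a
  let g : ∀ x : PrimeSpectrum A, x.asIdeal ≤ p → PrimeSpectrum (Localization.AtPrime q) := fun x hx =>
    ⟨x.asIdeal.map (algebraMap A _), IsLocalization.isPrime_of_isPrime_disjoint q.primeCompl _ _ x.isPrime (hd x hx)⟩
  have hg : ∀ x hx, c (g x hx) = x := fun x hx =>
    PrimeSpectrum.ext (IsLocalization.comap_map_of_isPrime_disjoint q.primeCompl _ x.isPrime (hd x hx))
  let e : {y : PrimeSpectrum (Localization.AtPrime q) // y ∈ Module.support (Localization.AtPrime q) (LocalizedModule q.primeCompl M) ∧ y.asIdeal ≤ P} ≃o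
      {x : PrimeSpectrum A // x ∈ Module.support A M ∧ x.asIdeal ≤ p} :=
    { toFun := fun y => ⟨c y.1, (QGorD.mem_support_localized_iff q y.1).1 y.2.1, Ideal.comap_mono y.2.2⟩
      invFun := fun x => ⟨g x.1 x.2.2, (QGorD.mem_support_localized_iff q _).2 ((congrArg (· ∈ Module.support A M) (hg x.1 x.2.2)).mpr x.2.1),
        (Ideal.map_mono x.2.2).trans (hmap P).le⟩
      left_inv := fun y => Subtype.ext (PrimeSpectrum.localization_comap_injective _ q.primeCompl (hg (c y.1) (Ideal.comap_mono y.2.2)))
      right_inv := fun x => Subtype.ext (hg x.1 x.2.2)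
      map_rel_iff' := fun {a b} => by
        refine ⟨fun h => ?_, fun h => Ideal.comap_mono h⟩
        show a.1.asIdeal ≤ b.1.asIdeal
        rw [← hmap a.1.asIdeal, ← hmap b.1.asIdeal]
        exact Ideal.map_mono h }
  exact Order.krullDim_eq_of_orderIso e

/-- The inequality of `(S_k)` at one prime. -/
def SkIneq (k : ℕ) (A : Type u) [CommRing A] (M : Type u) [AddCommGroup M] [Module A M] (p : Ideal A) [p.IsPrime] : Prop :=
  min (k : WithBot ℕ∞) (Module.supportDim (Localization.AtPrime p) (LocalizedModule p.primeCompl M)) ≤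
    ((LocCoh.depth (Localization.AtPrime p) (LocalizedModule p.primeCompl M) : ℕ∞) : WithBot ℕ∞)

theorem hasSkAt_iff {A : Type u} [CommRing A] [IsNoetherianRing A] (k : ℕ) (M : Type u) [AddCommGroup M]
    [Module A M] [Module.Finite A M] (q : Ideal A) [q.IsPrime] :
    EGA4.HasSkAt k A M q ↔ ∀ (p : Ideal A) [p.IsPrime], p ≤ q → SkIneq k A M p := by
  constructor
  · intro h p _ hpq
    obtain ⟨P, _, hP, -⟩ := loc_equiv q p hpq
    have h1 := h P
    rw [supportDim_localization_localization, LocH.depth_localization_localization] at h1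
    subst hP
    exact h1
  · intro h P _
    rw [supportDim_localization_localization, LocH.depth_localization_localization]
    exact h _ (comap_loc_le q P)

variable {A B : Type u} [CommRing A] [CommRing B] [IsNoetherianRing A] [IsNoetherianRing B] [Algebra A B]
  (E : Type u) [AddCommGroup E] [Module A E] [Module.Finite A E]
  (F : Type u) [AddCommGroup F] [Module B F] [Module A F] [IsScalarTower A B F] [Module.Finite B F] [Module.Flat A F]

/-- Dimension and depth of `F ⊗ E` at a prime. -/
theorem invariants_at_prime (r : Ideal B) [r.IsPrime] (hF : (⟨r, inferInstance⟩ : PrimeSpectrum B) ∈ Module.support B F) :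
    ∃ (t : ℕ) (b : ℕ∞),
      Module.supportDim (Localization.AtPrime r) (EGA4.FibLocMod A B r F) = t ∧
      Module.supportDim (EGA4.FibLocRing A B r) (EGA4.FibLocMod A B r F) = t ∧
      LocCoh.depth (Localization.AtPrime r) (EGA4.FibLocMod A B r F) = b ∧ b ≤ t ∧
      Module.supportDim (Localization.AtPrime r) (LocalizedModule r.primeCompl (F ⊗[A] E)) =
        Module.supportDim (Localization.AtPrime (r.comap (algebraMap A B))) (LocalizedModule (r.comap (algebraMap A B)).primeCompl E) + t ∧
      LocCoh.depth (Localization.AtPrime r) (LocalizedModule r.primeCompl (F ⊗[A] E)) =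
        LocCoh.depth (Localization.AtPrime (r.comap (algebraMap A B))) (LocalizedModule (r.comap (algebraMap A B)).primeCompl E) + b := by
  let p := r.comap (algebraMap A B)
  haveI : r.LiesOver p := ⟨rfl⟩
  letI := Localization.AtPrime.algebraOfLiesOver p r
  let Ap := Localization.AtPrime p
  let Br := Localization.AtPrime r
  let Ep := LocalizedModule p.primeCompl E
  let Fr := LocalizedModule r.primeCompl F
  haveI : IsLocalHom (algebraMap Ap Br) := by
    refine ((local_hom_TFAE _).out 0 2).2 ?_
    rw [← Localization.AtPrime.map_eq_maximalIdeal, Ideal.map_map, ← IsScalarTower.algebraMap_eq,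
      IsScalarTower.algebraMap_eq A B, ← Ideal.map_map, ← Localization.AtPrime.map_eq_maximalIdeal]
    exact Ideal.map_mono Ideal.map_comap_le
  haveI : IsNoetherianRing Ap := IsLocalization.isNoetherianRing p.primeCompl _ inferInstance
  haveI : IsNoetherianRing Br := IsLocalization.isNoetherianRing r.primeCompl _ inferInstance
  haveI : Module.Finite Br Fr := Module.Finite.of_isLocalizedModule r.primeCompl (LocalizedModule.mkLinearMap r.primeCompl F)
  haveI : Module.Finite Ap Ep := Module.Finite.of_isLocalizedModule p.primeCompl (LocalizedModule.mkLinearMap p.primeCompl E)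
  letI : Module Ap Fr := Module.compHom Fr (algebraMap Ap Br)
  haveI : IsScalarTower Ap Br Fr := IsScalarTower.of_algebraMap_smul fun _ _ => rfl
  haveI : IsScalarTower A Ap Fr := IsScalarTower.of_algebraMap_smul fun a x => by
    show algebraMap Ap Br (algebraMap A Ap a) • x = a • x
    rw [← IsScalarTower.algebraMap_apply, IsScalarTower.algebraMap_apply A B Br, algebraMap_smul, algebraMap_smul]
  haveI : Module.Flat A Fr := InjFibre.flat_localized r.primeCompl (LocalizedModule.mkLinearMap r.primeCompl F)
  haveI : Module.Flat Ap Fr := (Module.flat_iff_of_isLocalization Ap p.primeCompl Fr).2 inferInstance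
  haveI : IsScalarTower A Br Fr := IsScalarTower.of_algebraMap_smul fun a x => by
    rw [IsScalarTower.algebraMap_apply A B Br, algebraMap_smul, algebraMap_smul]
  haveI hnt : Nontrivial Fr := Module.mem_support_iff.1 hF
  let f : F ⊗[A] E →ₗ[B] Fr ⊗[A] E :=
    AlgebraTensorModule.rTensor A E (LocalizedModule.mkLinearMap r.primeCompl F)
  haveI : IsLocalizedModule r.primeCompl f := inferInstance
  let e1 : LocalizedModule r.primeCompl (F ⊗[A] E) ≃ₗ[Br] Fr ⊗[A] E :=
    (IsLocalizedModule.linearEquiv r.primeCompl (LocalizedModule.mkLinearMap r.primeCompl (F ⊗[A] E)) f).extendScalarsOfIsLocalization r.primeCompl Br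
  let e2 : Fr ⊗[A] E ≃ₗ[Br] Fr ⊗[Ap] Ep :=
    (AlgebraTensorModule.cancelBaseChange A Ap Br Fr E).symm ≪≫ₗ
      AlgebraTensorModule.congr (LinearEquiv.refl Br Fr) (LocalizedModule.equivTensorProduct p.primeCompl E).symm
  have hmap : (maximalIdeal Ap).map (algebraMap Ap Br) = p.map (algebraMap A Br) := by
    rw [← Localization.AtPrime.map_eq_maximalIdeal, Ideal.map_map, ← IsScalarTower.algebraMap_eq]
  let G := EGA4.FibLocMod A B r F
  let e3 : (Fr ⧸ ((maximalIdeal Ap).map (algebraMap Ap Br) • (⊤ : Submodule Br Fr))) ≃ₗ[Br] G :=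
    Submodule.quotEquivOfEq _ _ (by rw [hmap])
  haveI hG : Nontrivial (Fr ⧸ ((maximalIdeal Ap).map (algebraMap Ap Br) • (⊤ : Submodule Br Fr))) := by
    rw [Submodule.Quotient.nontrivial_iff, ne_comm]
    exact Submodule.top_ne_ideal_smul_of_le_jacobson_annihilator ((map_maximalIdeal_le (algebraMap Ap Br)).trans
      (IsLocalRing.maximalIdeal_le_jacobson _))
  haveI : Nontrivial G := e3.symm.nontrivial
  obtain ⟨t, ht⟩ := QGorD.exists_nat_supportDim (R := Br) G
  refine ⟨t, _, ht, (supportDim_quotient_ring _ G).trans ht, rfl, InvFin.depth_le_supportDim G ht, ?_, ?_⟩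
  · rw [Module.supportDim_eq_of_equiv (e1.trans e2)]
    rcases subsingleton_or_nontrivial Ep with h | h
    · rw [(Module.supportDim_eq_bot_iff_subsingleton Br (Fr ⊗[Ap] Ep)).2 inferInstance,
        (Module.supportDim_eq_bot_iff_subsingleton Ap Ep).2 h, WithBot.bot_add]
    · rw [← ht, ← Module.supportDim_eq_of_equiv e3]
      exact le_antisymm (supportDim_tensor_le Ep Fr) (supportDim_tensor_ge Ep Fr)
  · rw [LocCoh.depth, LocH.idealDepth_congr (e1.trans e2)]
    have h3 := depth_tensor (R := Ap) (S := Br) Fr Ep
    rw [LocCoh.depth] at h3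
    rw [h3]
    congr 1
    exact LocH.idealDepth_congr e3 _

theorem skIneq_tensor (k : ℕ) (r : Ideal B) [r.IsPrime]
    (hE : SkIneq k A E (r.comap (algebraMap A B))) (hfib : LocCoh.HasSk k (EGA4.FibLocRing A B r) (EGA4.FibLocMod A B r F)) :
    SkIneq k B (F ⊗[A] E) r := by
  by_cases hF : (⟨r, inferInstance⟩ : PrimeSpectrum B) ∈ Module.support B F
  swap
  · have hs : Subsingleton (LocalizedModule r.primeCompl (F ⊗[A] E)) := not_nontrivial_iff_subsingleton.1 fun h =>
      hF ((mem_support_tensor E F ⟨r, inferInstance⟩).1 (Module.mem_support_iff.2 h)).1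
    rw [SkIneq, (Module.supportDim_eq_bot_iff_subsingleton _ _).2 hs]
    exact (min_le_right _ _).trans bot_le
  obtain ⟨t, b, h1, h2, h3, h4, h5, h6⟩ := invariants_at_prime (A := A) E F r hF
  rw [SkIneq, h5, h6]
  unfold SkIneq at hE
  haveI : IsLocalRing (EGA4.FibLocRing A B r) := by
    have : Nontrivial (EGA4.FibLocMod A B r F) := by
      rw [← Module.supportDim_ne_bot_iff_nontrivial (R := Localization.AtPrime r), h1]
      exact WithBot.natCast_ne_bot t
    haveI : Nontrivial (EGA4.FibLocRing A B r) := Module.nontrivial _ (EGA4.FibLocMod A B r F)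
    exact IsLocalRing.of_surjective' _ Ideal.Quotient.mk_surjective
  haveI : IsNoetherianRing (Localization.AtPrime r) := IsLocalization.isNoetherianRing r.primeCompl _ inferInstance
  let T := EGA4.FibLocRing A B r
  let G := EGA4.FibLocMod A B r F
  haveI : Module.Finite (Localization.AtPrime r) (LocalizedModule r.primeCompl F) :=
    Module.Finite.of_isLocalizedModule r.primeCompl (LocalizedModule.mkLinearMap r.primeCompl F)
  haveI : Module.Finite T G := Module.Finite.of_restrictScalars_finite (Localization.AtPrime r) T G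
  have hfib' := hfib (maximalIdeal T)
  have hb : min (k : WithBot ℕ∞) t ≤ (b : WithBot ℕ∞) := by
    have e1 : Module.supportDim (Localization.AtPrime (maximalIdeal T)) (LocalizedModule (maximalIdeal T).primeCompl G) = t := by
      rw [supportDim_localized_eq, ← h2, Module.supportDim]
      exact Order.krullDim_eq_of_orderIso
        { toFun := fun x => ⟨x.1, x.2.1⟩
          invFun := fun x => ⟨x.1, x.2, le_maximalIdeal x.1.isPrime.ne_top⟩
          left_inv := fun _ => rfl
          right_inv := fun _ => rfl
          map_rel_iff' := Iff.rfl }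
    have e2 : LocCoh.depth (Localization.AtPrime (maximalIdeal T)) (LocalizedModule (maximalIdeal T).primeCompl G) = b := by
      haveI : IsLocalization (maximalIdeal T).primeCompl T := IsLocalization.self fun x hx => IsLocalRing.notMem_maximalIdeal.1 hx
      haveI : IsLocalizedModule (maximalIdeal T).primeCompl (LinearMap.id : G →ₗ[T] G) := isLocalizedModule_id _ G T
      rw [← h3, ← depth_quotient_ring ((r.comap (algebraMap A B)).map (algebraMap A (Localization.AtPrime r))) G]
      exact (LocH.depth_eq_of_isLocalizedModule G (maximalIdeal T) T (fun x => IsLocalRing.notMem_maximalIdeal.1 x.2)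
        (fun a => ⟨a, 1, by simp⟩) G LinearMap.id).symm
    rwa [e1, e2] at hfib'
  cases hd : Module.supportDim (Localization.AtPrime (r.comap (algebraMap A B))) (LocalizedModule (r.comap (algebraMap A B)).primeCompl E) with
  | bot => rw [WithBot.bot_add]; exact (min_le_right _ _).trans bot_le
  | coe s =>
    rw [hd, ← WithBot.coe_natCast, ← WithBot.coe_min, WithBot.coe_le_coe] at hE
    rw [← WithBot.coe_natCast, ← WithBot.coe_natCast, ← WithBot.coe_min, WithBot.coe_le_coe] at hb
    rw [← WithBot.coe_natCast, ← WithBot.coe_natCast, ← WithBot.coe_add, ← WithBot.coe_min, WithBot.coe_le_coe]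
    generalize LocCoh.depth (Localization.AtPrime (r.comap (algebraMap A B))) (LocalizedModule (r.comap (algebraMap A B)).primeCompl E) = a at hE
    rcases le_total (k : ℕ∞) s with hks | hks
    · rw [min_eq_left hks] at hE
      exact (min_le_left _ _).trans (hE.trans le_self_add)
    rcases le_total (k : ℕ∞) t with hkt | hkt
    · rw [min_eq_left hkt] at hb
      exact (min_le_left _ _).trans (hb.trans le_add_self)
    rw [min_eq_right hks] at hE
    rw [min_eq_right hkt] at hb
    exact (min_le_right _ _).trans (add_le_add hE hb)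

omit [IsNoetherianRing A] [IsNoetherianRing B] in
/-- Going down inside the support of a flat module. -/
theorem exists_support_le (P : PrimeSpectrum B) (hP : P ∈ Module.support B F) (q : PrimeSpectrum A)
    (hq : q.asIdeal ≤ P.asIdeal.comap (algebraMap A B)) :
    ∃ Q : PrimeSpectrum B, Q ∈ Module.support B F ∧ Q.asIdeal ≤ P.asIdeal ∧ Q.asIdeal.comap (algebraMap A B) = q.asIdeal := by
  let R' := B ⧸ Module.annihilator B F
  letI : Module R' F := Module.IsTorsionBySet.module
    ((Module.isTorsionBySet_iff_subset_annihilator B F).mpr subset_rfl)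
  haveI : IsScalarTower B R' F := ⟨fun b r x => by
    obtain ⟨r, rfl⟩ := Ideal.Quotient.mk_surjective r
    show Ideal.Quotient.mk _ (b * r) • x = b • (r • x)
    rw [← mul_smul]
    rfl⟩
  haveI : Module.Finite R' F := Module.Finite.of_restrictScalars_finite B R' F
  haveI : IsScalarTower A R' F := IsScalarTower.of_algebraMap_smul fun a n => by
    rw [IsScalarTower.algebraMap_apply A B R', algebraMap_smul, algebraMap_smul]
  have hann := Module.mem_support_iff_of_finite.1 hP
  let π := Ideal.Quotient.mk (Module.annihilator B F)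
  haveI : (P.asIdeal.map π).IsPrime := Ideal.map_isPrime_of_surjective Ideal.Quotient.mk_surjective (by rwa [Ideal.mk_ker])
  let P₁ : PrimeSpectrum R' := ⟨P.asIdeal.map π, inferInstance⟩
  have hP₁ : P₁.asIdeal.comap π = P.asIdeal := by
    rw [Ideal.comap_map_of_surjective _ Ideal.Quotient.mk_surjective, ← RingHom.ker_eq_comap_bot, Ideal.mk_ker,
      sup_eq_left.2 hann]
  have hP1' : P₁ ∈ Module.support R' F := by
    rw [Module.mem_support_iff_of_finite]
    intro x hx
    obtain ⟨x, rfl⟩ := Ideal.Quotient.mk_surjective x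
    rw [← Ideal.mem_comap, hP₁]
    refine hann (Module.mem_annihilator.2 fun n => ?_)
    exact (algebraMap_smul R' x n).symm.trans (Module.mem_annihilator.1 hx n)
  obtain ⟨Q, hQP, hQq⟩ := FlatModB.exists_prime_le_of_flat F P₁ hP1' q (by
    rw [IsScalarTower.algebraMap_eq A B R', ← Ideal.comap_comap, Ideal.Quotient.algebraMap_eq, hP₁]
    exact hq)
  refine ⟨Q.comap π, Module.mem_support_iff_of_finite.2 fun x hx => ?_, (Ideal.comap_mono hQP).trans hP₁.le, ?_⟩
  · show π x ∈ Q.asIdeal
    rw [Ideal.Quotient.eq_zero_iff_mem.2 hx]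
    exact Q.asIdeal.zero_mem
  · rw [← hQq]
    exact (congrArg PrimeSpectrum.asIdeal (PrimeSpectrum.comap_comp_apply (algebraMap A B) π Q)).symm

theorem skIneq_descent (k : ℕ) (q : PrimeSpectrum B) (hq : q ∈ Module.support B F) (p' : Ideal A) [p'.IsPrime]
    (hp : p' ≤ q.asIdeal.comap (algebraMap A B))
    (h : ∀ (r : Ideal B) [r.IsPrime], r ≤ q.asIdeal → SkIneq k B (F ⊗[A] E) r) : SkIneq k A E p' := by
  obtain ⟨Q, hQF, hQq, hQp⟩ := exists_support_le F q hq ⟨p', inferInstance⟩ hp
  let J := Module.annihilator B F ⊔ p'.map (algebraMap A B)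
  have hJQ : J ≤ Q.asIdeal :=
    sup_le (Module.mem_support_iff_of_finite.1 hQF) (Ideal.map_le_iff_le_comap.2 hQp.ge)
  obtain ⟨r, hr, hrQ⟩ := Ideal.exists_minimalPrimes_le hJQ
  haveI : r.IsPrime := hr.1.1
  have hrF : (⟨r, inferInstance⟩ : PrimeSpectrum B) ∈ Module.support B F :=
    Module.mem_support_iff_of_finite.2 (le_sup_left.trans hr.1.2)
  obtain rfl : p' = r.comap (algebraMap A B) :=
    le_antisymm (Ideal.map_le_iff_le_comap.1 (le_sup_right.trans hr.1.2)) ((Ideal.comap_mono hrQ).trans hQp.le)
  obtain ⟨t, b, h1, -, -, h4, h5, h6⟩ := invariants_at_prime (A := A) E F r hrF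
  have ht : t = 0 := by
    haveI : Module.Finite (Localization.AtPrime r) (LocalizedModule r.primeCompl F) :=
      Module.Finite.of_isLocalizedModule r.primeCompl (LocalizedModule.mkLinearMap r.primeCompl F)
    have key : ∀ x : Module.support (Localization.AtPrime r) (EGA4.FibLocMod A B r F),
        (x : PrimeSpectrum (Localization.AtPrime r)).asIdeal = maximalIdeal (Localization.AtPrime r) := by
      rintro ⟨x, hx⟩
      rw [Module.support_quotient] at hx
      obtain ⟨hx1, hx2⟩ := hx
      rw [QGorD.mem_support_localized_iff] at hx1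
      have hx3 : J ≤ x.asIdeal.comap (algebraMap B (Localization.AtPrime r)) := by
        refine sup_le (Module.mem_support_iff_of_finite.1 hx1) ?_
        rw [Ideal.map_le_iff_le_comap, Ideal.comap_comap, ← IsScalarTower.algebraMap_eq]
        exact Ideal.map_le_iff_le_comap.1 ((PrimeSpectrum.mem_zeroLocus _ _).1 hx2)
      have hxr : x.asIdeal.comap (algebraMap B (Localization.AtPrime r)) ≤ r := comap_loc_le r x.asIdeal
      have e : x.asIdeal.comap (algebraMap B (Localization.AtPrime r)) = r :=
        le_antisymm hxr (hr.2 ⟨inferInstance, hx3⟩ hxr)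
      show x.asIdeal = maximalIdeal (Localization.AtPrime r)
      rw [← IsLocalization.map_comap r.primeCompl (Localization.AtPrime r) x.asIdeal]
      exact (congrArg (Ideal.map _) e).trans Localization.AtPrime.map_eq_maximalIdeal
    have : Subsingleton (Module.support (Localization.AtPrime r) (EGA4.FibLocMod A B r F)) :=
      ⟨fun x y => Subtype.ext (PrimeSpectrum.ext ((key x).trans (key y).symm))⟩
    have h0 : Module.supportDim (Localization.AtPrime r) (EGA4.FibLocMod A B r F) ≤ 0 := Order.krullDim_nonpos_of_subsingleton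
    rw [h1] at h0
    exact_mod_cast le_antisymm h0 (by simp)
  subst ht
  have hb : b = 0 := le_antisymm (h4.trans (le_of_eq Nat.cast_zero)) bot_le
  subst hb
  have := h r (hrQ.trans hQq)
  rw [SkIneq, h5, h6, Nat.cast_zero, add_zero, add_zero] at this
  exact this

end Groth.Agent.FlatDepth
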