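import Groth.Agent.FlatDepth.SupportDim
import Groth.Agent.FlatDepth.Basic
import Groth.Agent.InvFin.Depth
import Groth.Agent.LocH.DepthMisc
import Mathlib

/-!
Cohen–Macaulayness of `N ⊗ M`.
-/

set_option autoImplicit false

namespace Groth.Agent.FlatDepth

universe u

open TensorProduct IsLocalRing

theorem supportDim_quotient_ring {B : Type u} [CommRing B] (J : Ideal B) (F : Type u) [AddCommGroup F] [Module B F]
    [Module (B ⧸ J) F] [IsScalarTower B (B ⧸ J) F] [Module.Finite B F] :
    Module.supportDim (B ⧸ J) F = Module.supportDim B F := by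
  haveI : Module.Finite (B ⧸ J) F := Module.Finite.of_restrictScalars_finite B (B ⧸ J) F
  rw [Module.supportDim_eq_ringKrullDim_quotient_annihilator, Module.supportDim_eq_ringKrullDim_quotient_annihilator]
  let π : B →+* (B ⧸ J) ⧸ Module.annihilator (B ⧸ J) F := (Ideal.Quotient.mk _).comp (Ideal.Quotient.mk J)
  have hker : RingHom.ker π = Module.annihilator B F := by
    ext b
    rw [RingHom.mem_ker, RingHom.comp_apply, Ideal.Quotient.eq_zero_iff_mem, Module.mem_annihilator, Module.mem_annihilator]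
    exact forall_congr' fun x => by rw [← Ideal.Quotient.algebraMap_eq, algebraMap_smul]
  rw [← (RingHom.quotientKerEquivOfSurjective (f := π) (Ideal.Quotient.mk_surjective.comp Ideal.Quotient.mk_surjective)).ringKrullDim,
    hker]

theorem depth_quotient_ring {B : Type u} [CommRing B] [IsNoetherianRing B] [IsLocalRing B] (J : Ideal B)
    [IsLocalRing (B ⧸ J)] (F : Type u) [AddCommGroup F] [Module B F]
    [Module (B ⧸ J) F] [IsScalarTower B (B ⧸ J) F] [Module.Finite B F] :
    LocCoh.depth (B ⧸ J) F = LocCoh.depth B F := by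
  haveI : Module.Finite (B ⧸ J) F := Module.Finite.of_restrictScalars_finite B (B ⧸ J) F
  rw [LocCoh.depth, LocCoh.depth, LocH.idealDepth_map_eq (R' := B ⧸ J) (maximalIdeal B) F, Ideal.Quotient.algebraMap_eq]
  congr 1
  haveI := IsLocalRing.maximalIdeal.isMaximal B
  refine Eq.symm <| IsLocalRing.eq_maximalIdeal (R := B ⧸ J) (Ideal.IsMaximal.map_of_surjective_of_ker_le (f := Ideal.Quotient.mk J) (m := maximalIdeal B) Ideal.Quotient.mk_surjective ?_)
  rw [Ideal.mk_ker]
  exact IsLocalRing.le_maximalIdeal fun e => not_subsingleton (B ⧸ J) (Ideal.Quotient.subsingleton_iff.2 e)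

variable {A B : Type u} [CommRing A] [CommRing B] [IsNoetherianRing A] [IsNoetherianRing B] [IsLocalRing A]
  [IsLocalRing B] [Algebra A B] [IsLocalHom (algebraMap A B)]

theorem isCohenMacaulay_tensor_iff (M : Type u) [AddCommGroup M] [Module A M] [Module.Finite A M] [Nontrivial M]
    (N : Type u) [AddCommGroup N] [Module B N] [Module A N] [IsScalarTower A B N] [Module.Finite B N] [Nontrivial N]
    [Module.Flat A N] :
    LocCoh.IsCohenMacaulayModule B (N ⊗[A] M) ↔
      LocCoh.IsCohenMacaulayModule A M ∧ LocCoh.IsCohenMacaulayModule (EGA4.FibRing A B) (EGA4.FibMod A B N) := by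
  haveI : Nontrivial (EGA4.FibMod A B N) := by
    rw [Submodule.Quotient.nontrivial_iff, ne_comm]
    exact Submodule.top_ne_ideal_smul_of_le_jacobson_annihilator ((map_maximalIdeal_le (algebraMap A B)).trans
      (IsLocalRing.maximalIdeal_le_jacobson _))
  obtain ⟨s, hs⟩ := QGorD.exists_nat_supportDim (R := A) M
  obtain ⟨t, ht⟩ := QGorD.exists_nat_supportDim (R := B) (EGA4.FibMod A B N)
  have hdim : Module.supportDim B (N ⊗[A] M) = ((s + t : ℕ) : WithBot ℕ∞) := by
    rw [Nat.cast_add, ← hs, ← ht]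
    exact le_antisymm (supportDim_tensor_le M N) (supportDim_tensor_ge M N)
  have hdep := depth_tensor (R := A) (S := B) N M
  have h1 := InvFin.depth_le_supportDim M hs
  have h2 := InvFin.depth_le_supportDim (A := B) (EGA4.FibMod A B N) ht
  obtain ⟨a, ha⟩ := ENat.ne_top_iff_exists.1 (ne_top_of_le_ne_top (ENat.natCast_ne_top s) h1)
  obtain ⟨b, hb⟩ := ENat.ne_top_iff_exists.1 (ne_top_of_le_ne_top (ENat.natCast_ne_top t) h2)
  rw [← ha, Nat.cast_le] at h1
  rw [← hb, Nat.cast_le] at h2
  rw [LocCoh.IsCohenMacaulayModule, LocCoh.IsCohenMacaulayModule, LocCoh.IsCohenMacaulayModule,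
    supportDim_quotient_ring, depth_quotient_ring, hdim, hs, ht, hdep, ← ha]
  erw [← hb]
  simp only [← Nat.cast_add, WithBot.coe_natCast, Nat.cast_inj]
  lia

end Groth.Agent.FlatDepth
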